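import Groth.Prelude.Def_WeakSerre
import Groth.Agent.DCohLib.Ghost
import Mathlib.CategoryTheory.Triangulated.Functor
import Mathlib.CategoryTheory.Triangulated.Adjunction
import Mathlib.Algebra.Homology.DerivedCategory.ExactFunctor

/-!
# Dévissage along cohomology objects in derived categories
-/

set_option autoImplicit false
set_option linter.style.haveILetI false

universe w w' v v' u u'

open CategoryTheory CategoryTheory.Limits CategoryTheory.Pretriangulated DerivedCategory

noncomputable section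

namespace Groth.Agent.SiteCmpLib

variable {A : Type u} [Category.{v} A] [Abelian A] [HasDerivedCategory.{w} A]

theorem isGE_truncLT (X : DerivedCategory A) (a b : ℤ) [X.IsGE a] :
    (((TStructure.t (C := A)).truncLT b).obj X).IsGE a := by
  refine (isGE_iff _ _).2 fun i hi => ?_
  rcases lt_or_ge i b with h | h
  · haveI := DCohLib.isIso_homology_truncLTι X b i h
    exact (isZero_of_isGE X a i hi).of_iso
      (asIso ((homologyFunctor A i).map (((TStructure.t (C := A)).truncLTι b).app X)))
  · exact isZero_of_isLE (((TStructure.t (C := A)).truncLT b).obj X) (b - 1) i (by omega)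

theorem isZero_single {M : A} (h : IsZero M) : IsZero ((singleFunctor A 0).obj M) :=
  (singleFunctor A 0).map_isZero h

/-- A property stable by shifts and extensions holds for a bounded object when it holds for its cohomology objects. -/
theorem prop_of_bounded (P : ObjectProperty (DerivedCategory A)) [P.IsClosedUnderIsomorphisms]
    (hshift : ∀ (X : DerivedCategory A) (n : ℤ), P X → P (X⟦n⟧))
    (htri : ∀ T ∈ distTriang (DerivedCategory A), P T.obj₁ → P T.obj₃ → P T.obj₂) :
    ∀ (l : ℕ) (a : ℤ) (X : DerivedCategory A), X.IsGE a → X.IsLE (a + l) →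
      (∀ q, P ((singleFunctor A 0).obj ((homologyFunctor A q).obj X))) → P X := by
  have hsingle : ∀ (n : ℤ) (X : DerivedCategory A), X.IsGE n → X.IsLE n →
      P ((singleFunctor A 0).obj ((homologyFunctor A n).obj X)) → P X := by
    intro n X _ _ h
    obtain ⟨M, ⟨e⟩⟩ := exists_iso_singleFunctor_obj_of_isGE_of_isLE X n
    let eM : (homologyFunctor A n).obj X ≅ M :=
      (homologyFunctor A n).mapIso e ≪≫ (singleFunctorCompHomologyFunctorIso A n).app M
    exact P.prop_of_iso ((((singleFunctors A).shiftIso (-n) n 0 (by omega)).app M) ≪≫ e.symm)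
      (hshift _ (-n) (P.prop_of_iso ((singleFunctor A 0).mapIso eM) h))
  intro l
  induction l with
  | zero =>
    intro a X h1 h2 h
    exact hsingle a X h1 (by simpa using h2) (h a)
  | succ l ih =>
    intro a X h1 h2 h
    let b : ℤ := a + (l + 1)
    have hzero : ∀ {M : A}, IsZero M → P ((singleFunctor A 0).obj M) := fun {M} hM => by
      refine P.prop_of_iso ((isZero_single ?_).iso (isZero_single hM)) (h (a - 1))
      exact isZero_of_isGE X a (a - 1) (by omega)
    have hT := (TStructure.t (C := A)).triangleLTGE_distinguished b X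
    refine htri _ hT ?_ ?_
    · refine ih a _ (isGE_truncLT X a b) ((TStructure.t (C := A)).isLE_truncLT_obj X b (a + l) (by omega)) fun q => ?_
      rcases lt_or_ge q b with hq | hq
      · haveI := DCohLib.isIso_homology_truncLTι X b q hq
        exact P.prop_of_iso ((singleFunctor A 0).mapIso
          (asIso ((homologyFunctor A q).map (((TStructure.t (C := A)).truncLTι b).app X))).symm) (h q)
      · exact hzero (isZero_of_isLE (((TStructure.t (C := A)).truncLT b).obj X) (b - 1) q (by omega))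
    · haveI : (((TStructure.t (C := A)).truncGE b).obj X).IsLE b := (isLE_iff _ _).2 fun i hi => by
        haveI := DCohLib.isIso_homology_truncGEπ X b i hi.le
        haveI := h2
        exact (isZero_of_isLE X (a + (l + 1 : ℕ)) i (by push_cast; omega)).of_iso
          (asIso ((homologyFunctor A i).map (((TStructure.t (C := A)).truncGEπ b).app X))).symm
      refine hsingle b (((TStructure.t (C := A)).truncGE b).obj X)
        (inferInstanceAs ((TStructure.t (C := A)).IsGE (((TStructure.t (C := A)).truncGE b).obj X) b)) ‹_› ?_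
      haveI := DCohLib.isIso_homology_truncGEπ X b b le_rfl
      exact P.prop_of_iso ((singleFunctor A 0).mapIso
        (asIso ((homologyFunctor A b).map (((TStructure.t (C := A)).truncGEπ b).app X)))) (h b)

section Functors

variable {B : Type u'} [Category.{v'} B] [Abelian B] [HasDerivedCategory.{w'} B]
  (Φ : DerivedCategory A ⥤ DerivedCategory B) [Φ.CommShift ℤ] [Φ.IsTriangulated]

/-- Left t-exactness. -/
def IsLeftExact (Φ : DerivedCategory A ⥤ DerivedCategory B) : Prop :=
  ∀ (X : DerivedCategory A) (n : ℤ), X.IsGE n → (Φ.obj X).IsGE n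

theorem isIso_homology_map_truncLTι (hΦ : IsLeftExact Φ) (X : DerivedCategory A) (b j : ℤ) (hj : j < b) :
    IsIso ((homologyFunctor B j).map (Φ.map (((TStructure.t (C := A)).truncLTι b).app X))) := by
  have hT := Φ.map_distinguished _ ((TStructure.t (C := A)).triangleLTGE_distinguished b X)
  have hge : (Φ.obj (((TStructure.t (C := A)).truncGE b).obj X)).IsGE b :=
    hΦ _ b (inferInstanceAs ((TStructure.t (C := A)).IsGE (((TStructure.t (C := A)).truncGE b).obj X) b))
  let T := Φ.mapTriangle.obj (((TStructure.t (C := A)).triangleLTGE b).obj X)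
  haveI : T.obj₃.IsGE b := hge
  haveI : Mono ((homologyFunctor B j).map T.mor₁) :=
    (HomologySequence.mono_homologyMap_mor₁_iff _ hT (j - 1) j (by omega)).2
      ((isZero_of_isGE T.obj₃ b (j - 1) (by omega)).eq_of_src _ _)
  haveI : Epi ((homologyFunctor B j).map T.mor₁) :=
    (HomologySequence.epi_homologyMap_mor₁_iff _ hT j).2
      ((isZero_of_isGE T.obj₃ b j hj).eq_of_tgt _ _)
  exact isIso_of_mono_of_epi ((homologyFunctor B j).map T.mor₁)

variable (Ψ : DerivedCategory A ⥤ DerivedCategory B) [Ψ.CommShift ℤ] [Ψ.IsTriangulated]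
  (τ : Φ ⟶ Ψ) [NatTrans.CommShift τ ℤ]

/-- The objects on which a natural transformation is invertible. -/
def isoLocus : ObjectProperty (DerivedCategory A) := fun X => IsIso (τ.app X)

instance : (isoLocus Φ Ψ τ).IsClosedUnderIsomorphisms :=
  ⟨fun e h => (NatTrans.isIso_app_iff_of_iso τ e).1 h⟩

theorem isoLocus_shift (X : DerivedCategory A) (n : ℤ) (h : IsIso (τ.app X)) : IsIso (τ.app (X⟦n⟧)) := by
  rw [NatTrans.app_shift τ n X]
  infer_instance

theorem isoLocus_triangle (T : Triangle (DerivedCategory A)) (hT : T ∈ distTriang _) (h₁ : IsIso (τ.app T.obj₁))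
    (h₃ : IsIso (τ.app T.obj₃)) : IsIso (τ.app T.obj₂) :=
  isIso₂_of_isIso₁₃ (T := Φ.mapTriangle.obj T) (T' := Ψ.mapTriangle.obj T)
    { hom₁ := τ.app _
      hom₂ := τ.app _
      hom₃ := τ.app _
      comm₁ := τ.naturality _
      comm₂ := τ.naturality _
      comm₃ := by
        show (Φ.map T.mor₃ ≫ _) ≫ _ = τ.app _ ≫ Ψ.map T.mor₃ ≫ _
        refine (Category.assoc _ _ _).trans
          ((congrArg (_ ≫ ·) (NatTrans.shift_app_comm τ (1 : ℤ) T.obj₁)).trans ?_)
        exact τ.naturality_assoc T.mor₃ _ }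
    (Φ.map_distinguished _ hT) (Ψ.map_distinguished _ hT) h₁ h₃

theorem isIso_app_of_bounded (X : DerivedCategory A) (a : ℤ) (l : ℕ) [X.IsGE a] [X.IsLE (a + l)]
    (h : ∀ q, IsIso (τ.app ((singleFunctor A 0).obj ((homologyFunctor A q).obj X)))) : IsIso (τ.app X) :=
  prop_of_bounded (isoLocus Φ Ψ τ) (isoLocus_shift Φ Ψ τ) (isoLocus_triangle Φ Ψ τ) l a X ‹_› ‹_› h

/-- A transformation of left t-exact functors is invertible on a bounded below object when it is so on the
cohomology objects. -/
theorem isIso_app_of_plus (hΦ : IsLeftExact Φ) (hΨ : IsLeftExact Ψ) (X : DerivedCategory A) (a : ℤ) [X.IsGE a]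
    (h : ∀ q, IsIso (τ.app ((singleFunctor A 0).obj ((homologyFunctor A q).obj X)))) : IsIso (τ.app X) := by
  rw [DerivedCategory.isIso_iff]
  intro j
  let b : ℤ := max (a + 1) (j + 1)
  haveI := isGE_truncLT X a b
  haveI : (((TStructure.t (C := A)).truncLT b).obj X).IsLE (a + ((b - 1 - a).toNat : ℕ)) :=
    (TStructure.t (C := A)).isLE_truncLT_obj X b _ (by omega)
  haveI : IsIso (τ.app (((TStructure.t (C := A)).truncLT b).obj X)) := by
    refine isIso_app_of_bounded Φ Ψ τ _ a (b - 1 - a).toNat fun q => ?_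
    rcases lt_or_ge q b with hq | hq
    · haveI := DCohLib.isIso_homology_truncLTι X b q hq
      exact (NatTrans.isIso_app_iff_of_iso τ ((singleFunctor A 0).mapIso
        (asIso ((homologyFunctor A q).map (((TStructure.t (C := A)).truncLTι b).app X))).symm)).1 (h q)
    · exact (NatTrans.isIso_app_iff_of_iso τ ((isZero_single (isZero_of_isGE X a (a - 1) (by omega))).iso
        (isZero_single (isZero_of_isLE (((TStructure.t (C := A)).truncLT b).obj X) (b - 1) q (by omega))))).1 (h (a - 1))
  haveI := isIso_homology_map_truncLTι Φ hΦ X b j (by omega)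
  haveI := isIso_homology_map_truncLTι Ψ hΨ X b j (by omega)
  have hn := congrArg (homologyFunctor B j).map (τ.naturality (((TStructure.t (C := A)).truncLTι b).app X))
  rw [Functor.map_comp, Functor.map_comp] at hn
  haveI : IsIso ((homologyFunctor B j).map (Φ.map (((TStructure.t (C := A)).truncLTι b).app X)) ≫
      (homologyFunctor B j).map (τ.app X)) := hn ▸ inferInstance
  exact IsIso.of_isIso_comp_left ((homologyFunctor B j).map (Φ.map (((TStructure.t (C := A)).truncLTι b).app X))) _

end Functors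

section WeakSerre

theorem prop_mid (P : ObjectProperty A) [WSerre.IsWeakSerre P] {X₀ X₁ X₂ X₃ X₄ : A} (f₀ : X₀ ⟶ X₁) (f₁ : X₁ ⟶ X₂)
    (f₂ : X₂ ⟶ X₃) (f₃ : X₃ ⟶ X₄) (w₁ : f₀ ≫ f₁ = 0) (w₂ : f₁ ≫ f₂ = 0) (w₃ : f₂ ≫ f₃ = 0)
    (e₁ : (ShortComplex.mk f₀ f₁ w₁).Exact) (e₂ : (ShortComplex.mk f₁ f₂ w₂).Exact)
    (e₃ : (ShortComplex.mk f₂ f₃ w₃).Exact) (h₀ : P X₀) (h₁ : P X₁) (h₃ : P X₃) (h₄ : P X₄) : P X₂ := by
  haveI : Mono (cokernel.desc f₀ f₁ w₁) := (ShortComplex.exact_iff_mono_cokernel_desc _).1 e₁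
  haveI : Epi (kernel.lift f₃ f₂ w₃) := (ShortComplex.exact_iff_epi_kernel_lift _).1 e₃
  let S : ShortComplex A := ShortComplex.mk (cokernel.desc f₀ f₁ w₁) (kernel.lift f₃ f₂ w₃)
    (coequalizer.hom_ext (equalizer.hom_ext (by simp [w₂])))
  let S₁ : ShortComplex A := ShortComplex.mk f₁ (kernel.lift f₃ f₂ w₃) (equalizer.hom_ext (by simp [w₂]))
  let φ : S₁ ⟶ ShortComplex.mk f₁ f₂ w₂ :=
    { τ₁ := 𝟙 _, τ₂ := 𝟙 _, τ₃ := kernel.ι f₃, comm₁₂ := by simp [S₁], comm₂₃ := by simp [S₁] }
  haveI : Epi φ.τ₁ := inferInstanceAs (Epi (𝟙 X₁))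
  haveI : IsIso φ.τ₂ := inferInstanceAs (IsIso (𝟙 X₂))
  haveI : Mono φ.τ₃ := inferInstanceAs (Mono (kernel.ι f₃))
  have e₁' : S₁.Exact := (ShortComplex.exact_iff_of_epi_of_isIso_of_mono φ).2 e₂
  let ψ : S₁ ⟶ S :=
    { τ₁ := cokernel.π f₀, τ₂ := 𝟙 _, τ₃ := 𝟙 _, comm₁₂ := by simp [S, S₁], comm₂₃ := by simp [S, S₁] }
  haveI : Epi ψ.τ₁ := inferInstanceAs (Epi (cokernel.π f₀))
  haveI : IsIso ψ.τ₂ := inferInstanceAs (IsIso (𝟙 X₂))
  haveI : Mono ψ.τ₃ := inferInstanceAs (Mono (𝟙 (kernel f₃)))
  exact P.prop_X₂_of_shortExact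
    (ShortComplex.ShortExact.mk' ((ShortComplex.exact_iff_of_epi_of_isIso_of_mono ψ).1 e₁')
      (inferInstanceAs (Mono (cokernel.desc f₀ f₁ w₁))) (inferInstanceAs (Epi (kernel.lift f₃ f₂ w₃))))
    (P.prop_of_isColimit_cokernelCofork (colimit.isColimit _) h₀ h₁)
    (P.prop_of_isLimit_kernelFork (limit.isLimit _) h₃ h₄)

theorem cohIn_triangle (P : ObjectProperty A) [WSerre.IsWeakSerre P] (T : Triangle (DerivedCategory A))
    (hT : T ∈ distTriang _) (h₁ : WSerre.cohIn P T.obj₁) (h₃ : WSerre.cohIn P T.obj₃) : WSerre.cohIn P T.obj₂ :=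
  fun q => prop_mid P _ _ _ _ _ _ _
    (HomologySequence.exact₁ _ hT (q - 1) q (by omega)) (HomologySequence.exact₂ _ hT q)
    (HomologySequence.exact₃ _ hT q (q + 1) rfl) (h₃ (q - 1)) (h₁ q) (h₃ q) (h₁ (q + 1))

theorem cohIn_shift (P : ObjectProperty A) [P.IsClosedUnderIsomorphisms] (X : DerivedCategory A) (n : ℤ)
    (h : WSerre.cohIn P X) : WSerre.cohIn P (X⟦n⟧) :=
  fun q => P.prop_of_iso (((homologyFunctor A 0).shiftIso n q (n + q) rfl).app X).symm (h (n + q))

theorem cohIn_of_iso (P : ObjectProperty A) [P.IsClosedUnderIsomorphisms] {X Y : DerivedCategory A} (e : X ≅ Y)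
    (h : WSerre.cohIn P X) : WSerre.cohIn P Y :=
  fun q => P.prop_of_iso ((homologyFunctor A q).mapIso e) (h q)

variable {B : Type u'} [Category.{v'} B] [Abelian B] [HasDerivedCategory.{w'} B]
  (Φ : DerivedCategory A ⥤ DerivedCategory B) [Φ.CommShift ℤ] [Φ.IsTriangulated]

theorem cohIn_map_of_plus (P : ObjectProperty B) [WSerre.IsWeakSerre P] (hΦ : IsLeftExact Φ)
    (X : DerivedCategory A) (a : ℤ) [X.IsGE a]
    (h : ∀ q, WSerre.cohIn P (Φ.obj ((singleFunctor A 0).obj ((homologyFunctor A q).obj X)))) :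
    WSerre.cohIn P (Φ.obj X) := by
  intro j
  let Q : ObjectProperty (DerivedCategory A) := fun Y => WSerre.cohIn P (Φ.obj Y)
  haveI : Q.IsClosedUnderIsomorphisms := ⟨fun e hY => cohIn_of_iso P (Φ.mapIso e) hY⟩
  let b : ℤ := max (a + 1) (j + 1)
  have hb : Q (((TStructure.t (C := A)).truncLT b).obj X) := by
    refine prop_of_bounded Q (fun Y n hY => cohIn_of_iso P ((Φ.commShiftIso n).app Y).symm (cohIn_shift P _ n hY))
      (fun T hT h₁ h₃ => cohIn_triangle P _ (Φ.map_distinguished _ hT) h₁ h₃) (b - 1 - a).toNat a _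
      (isGE_truncLT X a b) ((TStructure.t (C := A)).isLE_truncLT_obj X b _ (by omega)) fun q => ?_
    rcases lt_or_ge q b with hq | hq
    · haveI := DCohLib.isIso_homology_truncLTι X b q hq
      exact Q.prop_of_iso ((singleFunctor A 0).mapIso
        (asIso ((homologyFunctor A q).map (((TStructure.t (C := A)).truncLTι b).app X))).symm) (h q)
    · exact Q.prop_of_iso ((isZero_single (isZero_of_isGE X a (a - 1) (by omega))).iso
        (isZero_single (isZero_of_isLE (((TStructure.t (C := A)).truncLT b).obj X) (b - 1) q (by omega)))) (h (a - 1))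
  haveI := isIso_homology_map_truncLTι Φ hΦ X b j (by omega)
  exact P.prop_of_iso (asIso ((homologyFunctor B j).map (Φ.map (((TStructure.t (C := A)).truncLTι b).app X)))) (hb j)

end WeakSerre

section Exact

variable {B : Type u'} [Category.{v'} B] [Abelian B] [HasDerivedCategory.{w'} B]
  (F : A ⥤ B) [F.Additive] [PreservesFiniteLimits F] [PreservesFiniteColimits F]

/-- An exact functor commutes with cohomology objects. -/
def homologyMapDerivedIso (X : DerivedCategory A) (i : ℤ) :
    (homologyFunctor B i).obj (F.mapDerivedCategory.obj X) ≅ F.obj ((homologyFunctor A i).obj X) :=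
  let K := DerivedCategory.Q.objPreimage X
  let e := DerivedCategory.Q.objObjPreimageIso X
  (homologyFunctor B i).mapIso (F.mapDerivedCategory.mapIso e.symm ≪≫ F.mapDerivedCategoryFactors.app K) ≪≫
    (homologyFunctorFactors B i).app _ ≪≫ (K.sc i).mapHomologyIso F ≪≫
    F.mapIso (((homologyFunctorFactors A i).app K).symm ≪≫ (homologyFunctor A i).mapIso e)

theorem isLE_mapDerived (X : DerivedCategory A) (n : ℤ) [X.IsLE n] : (F.mapDerivedCategory.obj X).IsLE n :=
  (isLE_iff _ _).2 fun i hi => (F.map_isZero (isZero_of_isLE X n i hi)).of_iso (homologyMapDerivedIso F X i)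

theorem isLeftExact_mapDerived : IsLeftExact F.mapDerivedCategory := fun X n _ =>
  (isGE_iff _ _).2 fun i hi => (F.map_isZero (isZero_of_isGE X n i hi)).of_iso (homologyMapDerivedIso F X i)

theorem isLeftExact_rightAdjoint {G : DerivedCategory B ⥤ DerivedCategory A} (adj : F.mapDerivedCategory ⊣ G) :
    IsLeftExact G := fun X n _ => (isGE_iff _ _).2 fun i hi => by
  haveI : (((TStructure.t (C := A)).truncLT n).obj (G.obj X)).IsLE (n - 1) :=
    (TStructure.t (C := A)).isLE_truncLT_obj (G.obj X) n (n - 1) (by omega)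
  haveI := isLE_mapDerived F (((TStructure.t (C := A)).truncLT n).obj (G.obj X)) (n - 1)
  have h0 : ((TStructure.t (C := A)).truncLTι n).app (G.obj X) = 0 := by
    haveI : G.Additive := adj.right_adjoint_additive
    apply (adj.homEquiv _ _).symm.injective
    rw [Adjunction.homEquiv_counit, Adjunction.homEquiv_counit, Functor.map_zero, zero_comp]
    exact (TStructure.t (C := B)).zero _ (n - 1) n (by omega)
  haveI := DCohLib.isIso_homology_truncLTι (G.obj X) n i hi
  have h1 : (homologyFunctor A i).map (((TStructure.t (C := A)).truncLTι n).app (G.obj X)) = 0 := by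
    rw [h0, Functor.map_zero]
  rw [IsZero.iff_id_eq_zero,
    ← cancel_epi ((homologyFunctor A i).map (((TStructure.t (C := A)).truncLTι n).app (G.obj X)))]
  simp [h1]

end Exact

end Groth.Agent.SiteCmpLib
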