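import Groth.Agent.SiteCmpLib.Key
import Groth.Agent.SiteCmpLib.Devissage
import Groth.Agent.RlimCrit.Sites
import Groth.Prelude.Def_CohCx

/-!
# Derived direct images: triangles, connectivity and products
-/

set_option autoImplicit false
set_option linter.style.haveILetI false

universe u

open CategoryTheory CategoryTheory.Limits Opposite

attribute [local instance] HasDerivedCategory.standard

noncomputable section

namespace Groth.Agent.SiteCmpLib

variable {C : Type u} [SmallCategory C] {J : GrothendieckTopology C} {O_C : Sheaf J CommRingCat.{u}}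
  {D : Type u} [SmallCategory D] {K : GrothendieckTopology D} {O_D : Sheaf K CommRingCat.{u}}
  (f : ModSite.RMor O_C O_D) [SiteCmp.HasRpushD f]

/-- K-injective models of objects. -/
abbrev kinjModel : DerivedCategory (ModSite.Mod O_C) ⥤ HomotopyCategory (ModSite.Mod O_C) (ComplexShape.up ℤ) :=
  KInj.rightAdj (hres_mod O_C)

/-- Derived direct images through models. -/
def rpushModelIso : SiteCmp.RpushD f ≅ kinjModel ⋙ SiteCmp.pushKh f :=
  Functor.rightDerivedUnique _ _ (rpushUnit f) (KInj.derivedUnit (hres_mod O_C) (SiteCmp.pushKh f))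
    (HomotopyCategory.quasiIso (ModSite.Mod O_C) (ComplexShape.up ℤ))

theorem exists_triangulated_rpushD :
    ∃ (_ : (SiteCmp.RpushD f).CommShift ℤ), (SiteCmp.RpushD f).IsTriangulated := by
  letI := (KInj.qhAdjunction (hres_mod O_C)).rightAdjointCommShift ℤ
  haveI := (KInj.qhAdjunction (hres_mod O_C)).commShift_of_leftAdjoint ℤ
  haveI := (KInj.qhAdjunction (hres_mod O_C)).isTriangulated_rightAdjoint
  haveI : (f.push.mapHomotopyCategory (ComplexShape.up ℤ)).IsTriangulated := inferInstance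
  haveI : (DerivedCategory.Qh (C := ModSite.Mod O_D)).IsTriangulated := inferInstance
  haveI h₁ : (SiteCmp.pushKh f).IsTriangulated := @Functor.IsTriangulated.instComp _ _ _ _ _ _ _ _ _ _ _ _ _ _ _ _ _ _ _ _ _ _ _ _ _ _ _
  haveI : (kinjModel ⋙ SiteCmp.pushKh f).IsTriangulated := @Functor.IsTriangulated.instComp _ _ _ _ _ _ _ _ _ _ _ _ _ _ _ _ _ _ _ _ _ _ _ _ _ _ _
  let e := rpushModelIso f
  letI := Functor.CommShift.ofIso e.symm ℤ
  haveI := Functor.CommShift.ofIso_compatibility e.symm ℤ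
  exact ⟨inferInstance, Functor.isTriangulated_of_iso e.symm⟩

/-- First step: maps to a derived direct image are homotopy classes of maps to the model. -/
def homModelEquiv (V : D) (q : ℤ) (X : DerivedCategory (ModSite.Mod O_C)) :
    (RlimCrit.sgl q (freeOn O_D V) ⟶ (SiteCmp.RpushD f).obj X) ≃
      (quotH.obj (freeCx (O_D := O_D) V q) ⟶ (f.push.mapHomotopyCategory (ComplexShape.up ℤ)).obj (kinjModel.obj X)) :=
  (Iso.homCongr (((DerivedCategory.quotientCompQhIso (ModSite.Mod O_D)).app (freeCx (O_D := O_D) V q)).symm)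
      ((rpushModelIso f).app X)).trans
    (Equiv.ofBijective _ (bijective_Qh_push f V q (KInj.model (hres_mod O_C) X))).symm

theorem homModelEquiv_spec (V : D) (q : ℤ) (X : DerivedCategory (ModSite.Mod O_C))
    (ξ : RlimCrit.sgl q (freeOn O_D V) ⟶ (SiteCmp.RpushD f).obj X) :
    DerivedCategory.Qh.map (homModelEquiv f V q X ξ) =
      ((DerivedCategory.quotientCompQhIso (ModSite.Mod O_D)).app (freeCx (O_D := O_D) V q)).hom ≫ ξ ≫
        (rpushModelIso f).hom.app X :=
  (Equiv.ofBijective _ (bijective_Qh_push f V q (KInj.model (hres_mod O_C) X))).apply_symm_apply _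

theorem homModelEquiv_naturality (V : D) (q : ℤ) {X X' : DerivedCategory (ModSite.Mod O_C)} (g : X ⟶ X')
    (ξ : RlimCrit.sgl q (freeOn O_D V) ⟶ (SiteCmp.RpushD f).obj X) :
    homModelEquiv f V q X' (ξ ≫ (SiteCmp.RpushD f).map g) =
      homModelEquiv f V q X ξ ≫ (f.push.mapHomotopyCategory (ComplexShape.up ℤ)).map (kinjModel.map g) := by
  apply (bijective_Qh_push f V q (KInj.model (hres_mod O_C) X')).1
  refine (homModelEquiv_spec f V q X' _).trans (Eq.trans ?_ (DerivedCategory.Qh.map_comp _ _).symm)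
  refine Eq.trans ?_ (congrArg (· ≫ _) (homModelEquiv_spec f V q X ξ)).symm
  simp only [Category.assoc]
  exact congrArg (_ ≫ ·) (congrArg (ξ ≫ ·) ((rpushModelIso f).hom.naturality g))

/-- The free module in degree `q`, pulled back. -/
def pullFreeCxIso (V : D) (q : ℤ) :
    DerivedCategory.Qh.obj ((f.pull.mapHomotopyCategory (ComplexShape.up ℤ)).obj
        (quotH.obj (freeCx (O_D := O_D) V q))) ≅ RlimCrit.sgl q (f.pull.obj (freeOn O_D V)) :=
  DerivedCategory.Qh.mapIso ((f.pull.mapHomotopyCategoryFactors (ComplexShape.up ℤ)).app _ ≪≫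
    (HomotopyCategory.quotient (ModSite.Mod O_C) (ComplexShape.up ℤ)).mapIso
      ((HomologicalComplex.singleMapHomologicalComplex f.pull (ComplexShape.up ℤ) q).app (freeOn O_D V))) ≪≫
    (DerivedCategory.quotientCompQhIso (ModSite.Mod O_C)).app _

/-- Second step: the adjunctions. -/
def modelPullEquiv (V : D) (q : ℤ) (X : DerivedCategory (ModSite.Mod O_C)) :
    (quotH.obj (freeCx (O_D := O_D) V q) ⟶ (f.push.mapHomotopyCategory (ComplexShape.up ℤ)).obj (kinjModel.obj X)) ≃
      (RlimCrit.sgl q (f.pull.obj (freeOn O_D V)) ⟶ X) :=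
  (((KInj.homotopyAdjunction f.adj).homEquiv (quotH.obj (freeCx (O_D := O_D) V q)) (kinjModel.obj X)).symm.trans
    ((KInj.qhAdjunction (hres_mod O_C)).homEquiv _ X).symm).trans (pullFreeCxIso f V q).homFromEquiv

omit [SiteCmp.HasRpushD f] in
theorem modelPullEquiv_naturality (V : D) (q : ℤ) {X X' : DerivedCategory (ModSite.Mod O_C)} (g : X ⟶ X')
    (η : quotH.obj (freeCx (O_D := O_D) V q) ⟶
      (f.push.mapHomotopyCategory (ComplexShape.up ℤ)).obj (kinjModel.obj X)) :
    modelPullEquiv f V q X' (η ≫ (f.push.mapHomotopyCategory (ComplexShape.up ℤ)).map (kinjModel.map g)) =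
      modelPullEquiv f V q X η ≫ g := by
  simp only [modelPullEquiv, Equiv.trans_apply, Adjunction.homEquiv_naturality_right_symm,
    Iso.homFromEquiv_apply, Category.assoc]

/-- Maps from a free module in degree `q` to a derived direct image. -/
def homRpushEquiv (V : D) (q : ℤ) (X : DerivedCategory (ModSite.Mod O_C)) :
    (RlimCrit.sgl q (freeOn O_D V) ⟶ (SiteCmp.RpushD f).obj X) ≃
      (RlimCrit.sgl q (f.pull.obj (freeOn O_D V)) ⟶ X) :=
  (homModelEquiv f V q X).trans (modelPullEquiv f V q X)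

theorem homRpushEquiv_naturality (V : D) (q : ℤ) {X X' : DerivedCategory (ModSite.Mod O_C)} (g : X ⟶ X')
    (ξ : RlimCrit.sgl q (freeOn O_D V) ⟶ (SiteCmp.RpushD f).obj X) :
    homRpushEquiv f V q X' (ξ ≫ (SiteCmp.RpushD f).map g) = homRpushEquiv f V q X ξ ≫ g :=
  (congrArg (modelPullEquiv f V q X') (homModelEquiv_naturality f V q g ξ)).trans
    (modelPullEquiv_naturality f V q g _)

attribute [local irreducible] homRpushEquiv

theorem bijective_comp_rpush_map (V : D) (q : ℤ) {X X' : DerivedCategory (ModSite.Mod O_C)} (g : X ⟶ X') :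
    Function.Bijective (fun ξ : RlimCrit.sgl q (freeOn O_D V) ⟶ (SiteCmp.RpushD f).obj X =>
        ξ ≫ (SiteCmp.RpushD f).map g) ↔
      Function.Bijective (fun η : RlimCrit.sgl q (f.pull.obj (freeOn O_D V)) ⟶ X => η ≫ g) := by
  rw [← (homRpushEquiv f V q X').comp_bijective,
    show (homRpushEquiv f V q X') ∘ (fun ξ => ξ ≫ (SiteCmp.RpushD f).map g) =
      (fun η => η ≫ g) ∘ (homRpushEquiv f V q X) from funext (homRpushEquiv_naturality f V q g),
    (homRpushEquiv f V q X).bijective_comp]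

section Detect

variable {A : Type (u + 1)} [Category.{u} A] [Abelian A] {P : D ⥤ A} (hP : RlimCrit.IsLocGen K P)

include hP in
theorem isIso_of_bijective_sgl {X Y : DerivedCategory A} (g : X ⟶ Y)
    (h : ∀ (V : D) (q : ℤ), Function.Bijective (fun ξ : RlimCrit.sgl q (P.obj V) ⟶ X => ξ ≫ g)) : IsIso g := by
  rw [DerivedCategory.isIso_iff]
  intro q
  haveI : Mono ((DerivedCategory.homologyFunctor A q).map g) := Preadditive.mono_of_cancel_zero _ fun {M} k hk =>
    hP.det k fun U x => by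
      obtain ⟨S, hS, hξ⟩ := RlimCrit.exists_local_class hP (x ≫ k)
      refine hP.sep _ S hS fun V a ha => ?_
      obtain ⟨ξ, hξ'⟩ := hξ a ha
      obtain ⟨S', hS', hz⟩ := RlimCrit.exists_local_zero hP (ξ ≫ g) (by
        rw [RlimCrit.cl_comp, hξ', Category.assoc, Category.assoc, hk, comp_zero, comp_zero])
      refine hP.sep _ S' hS' fun W b hb => ?_
      rw [← hξ', ← RlimCrit.cl_map]
      have h0 : RlimCrit.sglMap q (P.map b) ≫ ξ = 0 := (h W q).1 (by
        show (RlimCrit.sglMap q (P.map b) ≫ ξ) ≫ g = 0 ≫ g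
        rw [Category.assoc, hz b hb, zero_comp])
      rw [h0, RlimCrit.cl_zero]
  haveI : Epi ((DerivedCategory.homologyFunctor A q).map g) := Preadditive.epi_of_cancel_zero _ fun {M} k hk =>
    hP.det k fun U x => by
      obtain ⟨S, hS, hξ⟩ := RlimCrit.exists_local_class hP x
      refine hP.sep _ S hS fun V a ha => ?_
      obtain ⟨η, hη⟩ := hξ a ha
      obtain ⟨ξ, rfl⟩ := (h V q).2 η
      rw [← Category.assoc, ← hη, RlimCrit.cl_comp, Category.assoc, hk, comp_zero]
  exact isIso_of_mono_of_epi _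

include hP in
theorem isGE_of_subsingleton_sgl (X : DerivedCategory A) (n : ℤ)
    (h : ∀ (V : D) (q : ℤ), q < n → Subsingleton (RlimCrit.sgl q (P.obj V) ⟶ X)) : X.IsGE n := by
  refine (DerivedCategory.isGE_iff _ _).2 fun q hq => ?_
  refine (IsZero.iff_id_eq_zero _).2 (hP.det _ fun U x => ?_)
  rw [Category.comp_id]
  obtain ⟨S, hS, hξ⟩ := RlimCrit.exists_local_class hP x
  refine hP.sep _ S hS fun V a ha => ?_
  obtain ⟨ξ, hξ'⟩ := hξ a ha
  rw [← hξ', (h V q hq).elim ξ 0, RlimCrit.cl_zero]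

end Detect

theorem isLeftExact_rpushD : IsLeftExact (SiteCmp.RpushD f) := fun X n hX => by
  refine isGE_of_subsingleton_sgl (RlimCrit.isLocGen_mod (ModSite.ringSh O_D)) _ n fun V q hq => ?_
  haveI := hX
  haveI : (RlimCrit.sgl q (f.pull.obj (freeOn O_D V))).IsLE q := inferInstance
  haveI := RlimCrit.subsingleton_hom_of_lt (X := RlimCrit.sgl q (f.pull.obj (freeOn O_D V))) (Y := X) q n hq
  exact (homRpushEquiv f V q X).subsingleton

instance preservesProduct_rpushD {T : Type} (E : T → DerivedCategory (ModSite.Mod O_C)) [HasProduct E]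
    [HasProduct fun t => (SiteCmp.RpushD f).obj (E t)] :
    PreservesLimit (Discrete.functor E) (SiteCmp.RpushD f) := by
  haveI : IsIso (piComparison (SiteCmp.RpushD f) E) := by
    refine isIso_of_bijective_sgl (RlimCrit.isLocGen_mod (ModSite.ringSh O_D)) _ fun V q => ?_
    have h : ∀ (ξ : RlimCrit.sgl q (freeOn O_D V) ⟶ (SiteCmp.RpushD f).obj (∏ᶜ E)) (t : T),
        (ξ ≫ piComparison (SiteCmp.RpushD f) E) ≫ Pi.π _ t = ξ ≫ (SiteCmp.RpushD f).map (Pi.π E t) :=
      fun ξ t => by rw [Category.assoc, piComparison_comp_π]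
    refine ⟨fun ξ ξ' e => (homRpushEquiv f V q _).injective (Pi.hom_ext _ _ fun t => ?_), fun ζ => ?_⟩
    · rw [← homRpushEquiv_naturality, ← homRpushEquiv_naturality, ← h, ← h]
      exact congrArg (fun z => homRpushEquiv f V q _ (z ≫ Pi.π _ t)) e
    · refine ⟨(homRpushEquiv f V q _).symm (Pi.lift fun t => homRpushEquiv f V q _ (ζ ≫ Pi.π _ t)),
        Pi.hom_ext _ _ fun t => (homRpushEquiv f V q (E t)).injective ?_⟩
      refine (congrArg _ (h _ t)).trans ?_
      rw [homRpushEquiv_naturality, Equiv.apply_symm_apply, Pi.lift_π]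
  exact PreservesProduct.of_iso_comparison (SiteCmp.RpushD f) E

theorem isRlimVia_rpushD (E : ℕ → DerivedCategory (ModSite.Mod O_C)) (t : ∀ n, E (n + 1) ⟶ E n) [HasProduct E]
    (L : DerivedCategory (ModSite.Mod O_C)) (a : ∀ n, L ⟶ E n) (hL : CohCx.IsRlimVia E t L a)
    [HasProduct fun n => (SiteCmp.RpushD f).obj (E n)] :
    CohCx.IsRlimVia (fun n => (SiteCmp.RpushD f).obj (E n)) (fun n => (SiteCmp.RpushD f).map (t n))
      ((SiteCmp.RpushD f).obj L) (fun n => (SiteCmp.RpushD f).map (a n)) := by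
  obtain ⟨c, hc⟩ := hL
  obtain ⟨_, _⟩ := exists_triangulated_rpushD f
  let e := PreservesProduct.iso (SiteCmp.RpushD f) E
  have h := (SiteCmp.RpushD f).map_distinguished _ hc
  refine ⟨e.inv ≫ (SiteCmp.RpushD f).map c ≫ ((SiteCmp.RpushD f).commShiftIso (1 : ℤ)).hom.app L,
    Pretriangulated.isomorphic_distinguished _ h _ (Pretriangulated.Triangle.isoMk _ _ (Iso.refl _) e.symm e.symm ?_ ?_ ?_)⟩
  · show Pi.lift _ ≫ e.inv = 𝟙 _ ≫ (SiteCmp.RpushD f).map (Pi.lift a)
    rw [Category.id_comp, Iso.comp_inv_eq, PreservesProduct.iso_hom, map_lift_piComparison]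
  · show Pi.lift _ ≫ e.inv = e.inv ≫ (SiteCmp.RpushD f).map (Pi.lift fun n => Pi.π E n - Pi.π E (n + 1) ≫ t n)
    rw [Iso.comp_inv_eq, Category.assoc, PreservesProduct.iso_hom, map_lift_piComparison]
    refine Pi.hom_ext _ _ fun n => ?_
    rw [Category.assoc, limit.lift_π, limit.lift_π, Iso.eq_inv_comp, PreservesProduct.iso_hom]
    simp [piComparison_comp_π_assoc, Functor.map_sub]
  · show (e.inv ≫ _ ≫ _) ≫ (𝟙 _)⟦(1 : ℤ)⟧' = e.inv ≫ _
    rw [CategoryTheory.Functor.map_id]
    exact Category.comp_id _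

end Groth.Agent.SiteCmpLib
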