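import Groth.Agent.SiteCmpLib.Stab

/-!
# Unbounded derived direct images under finite cohomological dimension
-/

set_option autoImplicit false
set_option linter.style.haveILetI false

universe u

open CategoryTheory CategoryTheory.Limits CategoryTheory.Pretriangulated Opposite DerivedCategory

attribute [local instance] HasDerivedCategory.standard

noncomputable section

namespace Groth.Agent.SiteCmpLib

variable {C : Type u} [SmallCategory C] {J : GrothendieckTopology C} {O_C : Sheaf J CommRingCat.{u}}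
  {D : Type u} [SmallCategory D] {K : GrothendieckTopology D} {O_D : Sheaf K CommRingCat.{u}}
  (f : ModSite.RMor O_C O_D) [SiteCmp.HasRpushD f]

/-- Maps from a free module in degree `q` to a derived direct image, on the source site. -/
def homRpushFree (V : D) (q : ℤ) (X : DerivedCategory (ModSite.Mod O_C)) :
    (RlimCrit.sgl q (freeOn O_D V) ⟶ (SiteCmp.RpushD f).obj X) ≃
      (RlimCrit.sgl q (freeOn O_C (f.fn.obj V)) ⟶ X) :=
  (homRpushEquiv f V q X).trans (DerivedCategory.Q.mapIso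
    ((HomologicalComplex.single (ModSite.Mod O_C) (ComplexShape.up ℤ) q).mapIso (pullFreeOnIso f V))).homFromEquiv

theorem homRpushFree_naturality (V : D) (q : ℤ) {X X' : DerivedCategory (ModSite.Mod O_C)} (g : X ⟶ X')
    (ξ : RlimCrit.sgl q (freeOn O_D V) ⟶ (SiteCmp.RpushD f).obj X) :
    homRpushFree f V q X' (ξ ≫ (SiteCmp.RpushD f).map g) = homRpushFree f V q X ξ ≫ g := by
  simp only [homRpushFree, Equiv.trans_apply, homRpushEquiv_naturality, Iso.homFromEquiv_apply, Category.assoc]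

section

variable [HasInjectiveResolutions (ModSite.Mod O_C)]
  (A : ObjectProperty (ModSite.Mod O_C)) [WSerre.IsWeakSerre A] (B : Set C) (B' : Set D)
  (hB : ∀ U : C, ∃ (ι : Type u) (Y : ι → C) (g : ∀ i, Y i ⟶ U), Sieve.ofArrows Y g ∈ J U ∧ ∀ i, Y i ∈ B)
  (hA : ∀ V ∈ B, ∃ d : ℕ, ∀ T ∈ J V, ∃ (ι : Type u) (Y : ι → C) (g : ∀ i, Y i ⟶ V),
    (∀ i, T.arrows (g i)) ∧ Sieve.ofArrows Y g ∈ J V ∧
    ∀ (i : ι) (F : ModSite.Mod O_C), A F → ∀ k : ℕ, d < k → Subsingleton (ModSite.HU O_C F k (Y i)))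
  (hB' : ∀ U : D, ∃ (ι : Type u) (Y : ι → D) (g : ∀ i, Y i ⟶ U), Sieve.ofArrows Y g ∈ K U ∧ ∀ i, Y i ∈ B')
  (N : ℤ) (h3 : ∀ F : ModSite.Mod O_C, A F → ∀ p : ℕ, N < (p : ℤ) → IsZero ((f.Rpush p).obj F))
  (X : DerivedCategory (ModSite.Mod O_C)) (hX : WSerre.cohIn A X)

theorem isGE_truncTower (m : ℕ) : (CohCx.truncTower X m).IsGE (-(m : ℤ)) :=
  inferInstanceAs ((TStructure.t (C := ModSite.Mod O_C)).IsGE
    (((TStructure.t (C := ModSite.Mod O_C)).truncGE (-(m : ℤ))).obj X) (-(m : ℤ)))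

include hB hA hB' h3 hX in
/-- Stabilisation when the inverse images of small objects have finite cohomological dimension. -/
theorem isIso_homology_rpush_truncGEπ_of_upstairs
    (hA' : ∀ V ∈ B', ∃ d : ℕ, ∀ T ∈ K V, ∃ (ι : Type u) (Y : ι → D) (g : ∀ i, Y i ⟶ V),
      (∀ i, T.arrows (g i)) ∧ Sieve.ofArrows Y g ∈ K V ∧
      ∀ (i : ι) (F : ModSite.Mod O_C), A F → ∀ k : ℕ, d < k → Subsingleton (ModSite.HU O_C F k (f.fn.obj (Y i))))
    (n : ℕ) (j : ℤ) (hj : N - (n : ℤ) ≤ j) :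
    IsIso ((homologyFunctor (ModSite.Mod O_D) j).map ((SiteCmp.RpushD f).map (CohCx.toTruncTower X n))) := by
  haveI := hasProducts_mod O_C
  haveI := hasProducts_mod O_D
  haveI : IsGrothendieckAbelian.{u} (ModSite.Mod O_C) := ModTensor.isGrothendieckAbelian_mod O_C
  haveI : HasExt.{u} (ModSite.Mod O_C) := inferInstance
  refine isIso_homology_limit (isRlimVia_rpushD f _ _ X _ (isRlimVia_of_cd O_C A B hB hA X hX)) B' hB' j n
    (fun m hm => isIso_homology_rpush_truncTowerMap f A N h3 X hX j m (by omega)) fun W hW => ?_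
  obtain ⟨d, hd⟩ := hA' W hW
  have hK : ∀ m, (∀ i, A ((homologyFunctor _ i).obj (CohCx.truncTower X m))) ∧
      ∃ a : ℤ, (CohCx.truncTower X m).IsGE a :=
    fun m => ⟨cohIn_truncGE A X hX _, -(m : ℤ), isGE_truncTower X m⟩
  have hconst : ∀ i : ℤ, ∃ N₀, ∀ m, N₀ ≤ m →
      IsIso ((homologyFunctor (ModSite.Mod O_C) i).map (CohCx.truncTowerMap X m)) :=
    fun i => ⟨(-i).toNat, fun m hm => RlimCrit.isIso_homology_truncTowerMap X m i (by omega)⟩
  obtain ⟨N₁, hN₁⟩ := RlimCrit.tower_bijective A (CohCx.truncTowerMap X) hK hconst d j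
  obtain ⟨N₂, hN₂⟩ := RlimCrit.tower_bijective A (CohCx.truncTowerMap X) hK hconst d (j - 1)
  refine ⟨max N₁ N₂, fun T hT => ?_⟩
  obtain ⟨ι, Y, g, hg, hS, hv⟩ := hd T hT
  refine ⟨ι, Y, g, hS, fun i => ⟨hg i, fun m hm => ?_⟩⟩
  have hext : ∀ F, A F → ∀ k : ℕ, d < k →
      Subsingleton (Abelian.Ext.{u} (freeOn O_C (f.fn.obj (Y i))) F k) := fun F hF k hk =>
    RlimCrit.subsingleton_ext_mod (ModSite.ringSh O_C) (f.fn.obj (Y i)) F k (hv i F hF k hk)
  obtain ⟨hinj, hsurj, -⟩ := hN₁ _ hext m ((le_max_left _ _).trans hm)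
  obtain ⟨-, hsurj', -⟩ := hN₂ _ hext m ((le_max_right _ _).trans hm)
  refine ⟨fun z hz => (homRpushFree f (Y i) j _).injective ?_, fun w => ?_, fun w => ?_⟩
  · obtain ⟨_, _⟩ := exists_triangulated_rpushD f
    have h0 : ∀ Z, homRpushFree f (Y i) j Z 0 = 0 := fun Z => by
      have := homRpushFree_naturality f (Y i) j (0 : Z ⟶ Z) 0
      rwa [Functor.map_zero, comp_zero, comp_zero] at this
    rw [h0]
    refine hinj _ ?_
    rw [← homRpushFree_naturality, hz, h0]
  · obtain ⟨v, hv'⟩ := hsurj (homRpushFree f (Y i) j _ w)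
    refine ⟨(homRpushFree f (Y i) j _).symm v, (homRpushFree f (Y i) j _).injective ?_⟩
    rw [homRpushFree_naturality, Equiv.apply_symm_apply, hv']
  · let e := RlimCrit.sglShiftIso (freeOn O_D (Y i)) (j - 1) j (by omega)
    obtain ⟨v, hv'⟩ := hsurj' (homRpushFree f (Y i) (j - 1) _ (e.inv ≫ w))
    refine ⟨e.hom ≫ (homRpushFree f (Y i) (j - 1) _).symm v, ?_⟩
    rw [Category.assoc, ← Iso.eq_inv_comp]
    refine (homRpushFree f (Y i) (j - 1) _).injective ?_
    rw [homRpushFree_naturality, Equiv.apply_symm_apply, hv']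

omit [HasInjectiveResolutions (ModSite.Mod O_C)] in
theorem cohIn_rpush_truncTower [HasInjectiveResolutions (ModSite.Mod O_C)]
    (A : ObjectProperty (ModSite.Mod O_C)) [WSerre.IsWeakSerre A] (X : DerivedCategory (ModSite.Mod O_C))
    (hX : WSerre.cohIn A X) (A' : ObjectProperty (ModSite.Mod O_D)) [WSerre.IsWeakSerre A']
    (h : ∀ F, A F → ∀ p : ℕ, A' ((f.Rpush p).obj F)) (m : ℕ) :
    WSerre.cohIn A' ((SiteCmp.RpushD f).obj (CohCx.truncTower X m)) := by
  obtain ⟨_, _⟩ := exists_triangulated_rpushD f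
  haveI := isGE_truncTower X m
  exact cohIn_map_of_plus (SiteCmp.RpushD f) A' (isLeftExact_rpushD f) _ (-(m : ℤ)) fun q =>
    cohIn_rpushD_single f _ A' (h _ (cohIn_truncGE A X hX _ q))

include hB hA hB' h3 hX in
/-- Stabilisation when small objects of the target have finite cohomological dimension for the images. -/
theorem cohIn_and_isIso_truncGEπ (A' : ObjectProperty (ModSite.Mod O_D)) [WSerre.IsWeakSerre A']
    (h : ∀ F, A F → ∀ p : ℕ, A' ((f.Rpush p).obj F))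
    (hA' : ∀ V ∈ B', ∃ d : ℕ, ∀ T ∈ K V, ∃ (ι : Type u) (Y : ι → D) (g : ∀ i, Y i ⟶ V),
      (∀ i, T.arrows (g i)) ∧ Sieve.ofArrows Y g ∈ K V ∧
      ∀ (i : ι) (F : ModSite.Mod O_D), A' F → ∀ k : ℕ, d < k → Subsingleton (ModSite.HU O_D F k (Y i))) :
    WSerre.cohIn A' ((SiteCmp.RpushD f).obj X) ∧
      ∀ (n : ℕ) (j : ℤ), N - (n : ℤ) ≤ j →
        IsIso ((homologyFunctor (ModSite.Mod O_D) j).map ((SiteCmp.RpushD f).map (CohCx.toTruncTower X n))) := by
  haveI := hasProducts_mod O_C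
  haveI := hasProducts_mod O_D
  haveI : IsGrothendieckAbelian.{u} (ModSite.Mod O_D) := ModTensor.isGrothendieckAbelian_mod O_D
  haveI : HasExt.{u} (ModSite.Mod O_D) := inferInstance
  have hK : ∀ m, (∀ i, A' ((homologyFunctor _ i).obj ((SiteCmp.RpushD f).obj (CohCx.truncTower X m)))) ∧
      ∃ a : ℤ, ((SiteCmp.RpushD f).obj (CohCx.truncTower X m)).IsGE a :=
    fun m => ⟨cohIn_rpush_truncTower f A X hX A' h m, -(m : ℤ),
      isLeftExact_rpushD f _ _ (isGE_truncTower X m)⟩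
  have hconst : ∀ i : ℤ, ∃ N₀, ∀ m, N₀ ≤ m → IsIso ((homologyFunctor (ModSite.Mod O_D) i).map
      ((SiteCmp.RpushD f).map (CohCx.truncTowerMap X m))) :=
    fun i => ⟨(N - i).toNat, fun m hm => isIso_homology_rpush_truncTowerMap f A N h3 X hX i m (by omega)⟩
  have hiso : ∀ (n : ℕ) (j : ℤ), N - (n : ℤ) ≤ j →
      IsIso ((homologyFunctor (ModSite.Mod O_D) j).map ((SiteCmp.RpushD f).map (CohCx.toTruncTower X n))) := by
    intro n j hj
    refine isIso_homology_limit (isRlimVia_rpushD f _ _ X _ (isRlimVia_of_cd O_C A B hB hA X hX)) B' hB' j n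
      (fun m hm => isIso_homology_rpush_truncTowerMap f A N h3 X hX j m (by omega)) fun W hW => ?_
    obtain ⟨d, hd⟩ := hA' W hW
    obtain ⟨N', hN'⟩ := RlimCrit.tower_bijective A' (fun m => (SiteCmp.RpushD f).map (CohCx.truncTowerMap X m))
      hK hconst d j
    refine ⟨N', fun T hT => ?_⟩
    obtain ⟨ι, Y, g, hg, hS, hv⟩ := hd T hT
    exact ⟨ι, Y, g, hS, fun i => ⟨hg i, fun m hm => hN' _ (fun F hF k hk =>
      RlimCrit.subsingleton_ext_mod (ModSite.ringSh O_D) (Y i) F k (hv i F hF k hk)) m hm⟩⟩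
  refine ⟨fun j => ?_, hiso⟩
  haveI := hiso (N - j).toNat j (by omega)
  exact A'.prop_of_iso (asIso ((homologyFunctor (ModSite.Mod O_D) j).map
    ((SiteCmp.RpushD f).map (CohCx.toTruncTower X (N - j).toNat)))).symm
    (cohIn_rpush_truncTower f A X hX A' h _ j)

end

end Groth.Agent.SiteCmpLib
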