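import Groth.Agent.SiteCmpLib.Devissage

/-!
# Unit and counit of a derived adjunction on bounded below objects
-/

set_option autoImplicit false
set_option linter.style.haveILetI false

universe w w' v v' u u'

open CategoryTheory CategoryTheory.Limits CategoryTheory.Pretriangulated DerivedCategory

noncomputable section

namespace Groth.Agent.SiteCmpLib

variable {A : Type u} [Category.{v} A] [Abelian A] [HasDerivedCategory.{w} A]
  {B : Type u'} [Category.{v'} B] [Abelian B] [HasDerivedCategory.{w'} B]
  (F : A ⥤ B) [F.Additive] [PreservesFiniteLimits F] [PreservesFiniteColimits F]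
  {G : DerivedCategory B ⥤ DerivedCategory A} (adj : F.mapDerivedCategory ⊣ G)

include adj in
theorem isIso_unit_app_of_plus (Y : DerivedCategory A) (a : ℤ) [Y.IsGE a]
    (h : ∀ q, IsIso (adj.unit.app ((singleFunctor A 0).obj ((homologyFunctor A q).obj Y)))) :
    IsIso (adj.unit.app Y) := by
  letI := adj.rightAdjointCommShift ℤ
  haveI := adj.commShift_of_leftAdjoint ℤ
  haveI := adj.isTriangulated_rightAdjoint
  exact isIso_app_of_plus _ _ adj.unit (fun X n hX => hX)
    (fun X n hX => isLeftExact_rightAdjoint F adj _ n (isLeftExact_mapDerived F X n hX)) Y a h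

include adj in
theorem isIso_counit_app_of_plus (X : DerivedCategory B) (a : ℤ) [X.IsGE a]
    (h : ∀ q, IsIso (adj.counit.app ((singleFunctor B 0).obj ((homologyFunctor B q).obj X)))) :
    IsIso (adj.counit.app X) := by
  letI := adj.rightAdjointCommShift ℤ
  haveI := adj.commShift_of_leftAdjoint ℤ
  haveI := adj.isTriangulated_rightAdjoint
  exact isIso_app_of_plus _ _ adj.counit
    (fun X n hX => isLeftExact_mapDerived F _ n (isLeftExact_rightAdjoint F adj X n hX))
    (fun X n hX => hX) X a h

theorem cohIn_mapDerived (P : ObjectProperty A) (Q : ObjectProperty B) [Q.IsClosedUnderIsomorphisms]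
    (h : ∀ M, P M → Q (F.obj M)) (Y : DerivedCategory A) (hY : WSerre.cohIn P Y) :
    WSerre.cohIn Q (F.mapDerivedCategory.obj Y) :=
  fun i => Q.prop_of_iso (homologyMapDerivedIso F Y i).symm (h _ (hY i))

theorem cohIn_single (P : ObjectProperty A) [WSerre.IsWeakSerre P] (M : A) (hM : P M) :
    WSerre.cohIn P ((singleFunctor A 0).obj M) := fun i => by
  obtain rfl | hi := eq_or_ne i 0
  · exact P.prop_of_iso ((singleFunctorCompHomologyFunctorIso A 0).app M).symm hM
  · obtain ⟨Z, hZ, hPZ⟩ := P.exists_prop_of_containsZero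
    rcases lt_or_gt_of_ne hi with h | h
    · exact P.prop_of_iso (hZ.iso (isZero_of_isGE ((singleFunctor A 0).obj M) 0 i h)) hPZ
    · exact P.prop_of_iso (hZ.iso (isZero_of_isLE ((singleFunctor A 0).obj M) 0 i h)) hPZ

theorem isIso_counit_map_obj (Y : DerivedCategory A) [IsIso (adj.unit.app Y)] :
    IsIso (adj.counit.app (F.mapDerivedCategory.obj Y)) :=
  IsIso.of_isIso_fac_left (adj.left_triangle_components Y)

include adj in
/-- The equivalence of bounded below objects with cohomology in matching subcategories. -/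
theorem equivalence_plus (PB : ObjectProperty B) (PA : ObjectProperty A) [WSerre.IsWeakSerre PA]
    (hess : ∀ M, PB M → ∃ M' : A, PA M' ∧ Nonempty (F.obj M' ≅ M))
    (hunit : ∀ M, PA M → IsIso (adj.unit.app ((singleFunctor A 0).obj M))) (X : DerivedCategory B) (a : ℤ)
    [X.IsGE a] (hX : WSerre.cohIn PB X) :
    WSerre.cohIn PA (G.obj X) ∧ (G.obj X).IsGE a ∧ IsIso (adj.counit.app X) := by
  letI := adj.rightAdjointCommShift ℤ
  haveI := adj.commShift_of_leftAdjoint ℤ
  haveI := adj.isTriangulated_rightAdjoint
  have key : ∀ q, IsIso (adj.counit.app ((singleFunctor B 0).obj ((homologyFunctor B q).obj X))) ∧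
      WSerre.cohIn PA (G.obj ((singleFunctor B 0).obj ((homologyFunctor B q).obj X))) := fun q => by
    obtain ⟨M, hM, ⟨e⟩⟩ := hess _ (hX q)
    haveI := hunit M hM
    let e' := (F.mapDerivedCategorySingleFunctor 0).app M ≪≫ (singleFunctor B 0).mapIso e
    exact ⟨(NatTrans.isIso_app_iff_of_iso adj.counit e').1 (isIso_counit_map_obj F adj _),
      cohIn_of_iso PA (asIso (adj.unit.app ((singleFunctor A 0).obj M)) ≪≫ G.mapIso e') (cohIn_single PA M hM)⟩
  exact ⟨cohIn_map_of_plus G PA (isLeftExact_rightAdjoint F adj) X a fun q => (key q).2,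
    isLeftExact_rightAdjoint F adj X a ‹_›, isIso_counit_app_of_plus F adj X a fun q => (key q).1⟩

end Groth.Agent.SiteCmpLib
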