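import Groth.Agent.SiteCmpLib.Rpush
import Groth.Agent.SiteCmpLib.Equiv
import Groth.Agent.RlimCrit.Bounded
import Groth.Agent.SpSeqLib.Grothendieck
import Groth.Agent.TildeD.Adj

/-!
# Stabilisation of derived direct images along truncations
-/

set_option autoImplicit false
set_option linter.style.haveILetI false

universe u

open CategoryTheory CategoryTheory.Limits CategoryTheory.Pretriangulated Opposite DerivedCategory

attribute [local instance] HasDerivedCategory.standard

noncomputable section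

namespace Groth.Agent.SiteCmpLib

variable {C : Type u} [SmallCategory C] {J : GrothendieckTopology C} {O_C : Sheaf J CommRingCat.{u}}
  {D : Type u} [SmallCategory D] {K : GrothendieckTopology D} {O_D : Sheaf K CommRingCat.{u}}
  (f : ModSite.RMor O_C O_D) [SiteCmp.HasRpushD f]

theorem hasProducts_mod {C : Type u} [SmallCategory C] {J : GrothendieckTopology C} (O : Sheaf J CommRingCat.{u}) :
    HasProductsOfShape ℕ (DerivedCategory (ModSite.Mod O)) :=
  TildeD.hasProductsOfShape_derived (hres_mod O) ℕ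

/-- Cohomology of the derived direct image of a single module. -/
theorem nonempty_homology_rpushD_single [HasInjectiveResolutions (ModSite.Mod O_C)] (F : ModSite.Mod O_C) (p : ℕ) :
    Nonempty ((homologyFunctor (ModSite.Mod O_D) (p : ℤ)).obj
      ((SiteCmp.RpushD f).obj (SiteCmp.inD O_C F)) ≅ (f.Rpush p).obj F) := by
  let R := injectiveResolution F
  haveI : R.cochainComplex.IsKInjective := CochainComplex.isKInjective_of_injective _ 0
  haveI := isIso_rpushUnit_app f R.cochainComplex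
  haveI : IsIso (Q.map R.ι') := (isIso_Q_map_iff_quasiIso _ _).2 inferInstance
  let e : (SiteCmp.RpushD f).obj (SiteCmp.inD O_C F) ≅
      Q.obj ((f.push.mapHomologicalComplex (ComplexShape.up ℤ)).obj R.cochainComplex) :=
    (SiteCmp.RpushD f).mapIso ((singleFunctorIsoCompQ (ModSite.Mod O_C) 0).app F ≪≫ asIso (Q.map R.ι') ≪≫
      ((quotientCompQhIso (ModSite.Mod O_C)).app R.cochainComplex).symm) ≪≫
    (asIso ((rpushUnit f).app (quotH.obj R.cochainComplex))).symm ≪≫
    Qh.mapIso ((f.push.mapHomotopyCategoryFactors (ComplexShape.up ℤ)).app _) ≪≫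
    (quotientCompQhIso (ModSite.Mod O_D)).app _
  exact ⟨(homologyFunctor _ _).mapIso e ≪≫ (homologyFunctorFactors _ (p : ℤ)).app _ ≪≫
    (HomologicalComplex.homologyFunctor (ModSite.Mod O_D) _ (p : ℤ)).mapIso
      (SpSeqLib.mapExtendIso f.push R.cocomplex ComplexShape.embeddingUpNat) ≪≫
    ((f.push.mapHomologicalComplex _).obj R.cocomplex).extendHomologyIso ComplexShape.embeddingUpNat
      (j := p) rfl ≪≫
    (R.isoRightDerivedObj f.push p).symm⟩

theorem isZero_homology_rpushD_single [HasInjectiveResolutions (ModSite.Mod O_C)] (F : ModSite.Mod O_C) (N : ℤ)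
    (h : ∀ p : ℕ, N < (p : ℤ) → IsZero ((f.Rpush p).obj F)) (q : ℤ) (hq : N < q) :
    IsZero ((homologyFunctor (ModSite.Mod O_D) q).obj ((SiteCmp.RpushD f).obj (SiteCmp.inD O_C F))) := by
  rcases lt_or_ge q 0 with h0 | h0
  · haveI := isLeftExact_rpushD f (SiteCmp.inD O_C F) 0 inferInstance
    exact isZero_of_isGE _ 0 q h0
  · obtain ⟨p, rfl⟩ := Int.eq_ofNat_of_zero_le h0
    obtain ⟨e⟩ := nonempty_homology_rpushD_single f F p
    exact (h p hq).of_iso e

theorem cohIn_rpushD_single [HasInjectiveResolutions (ModSite.Mod O_C)] (F : ModSite.Mod O_C)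
    (P : ObjectProperty (ModSite.Mod O_D)) [WSerre.IsWeakSerre P] (h : ∀ p : ℕ, P ((f.Rpush p).obj F)) :
    WSerre.cohIn P ((SiteCmp.RpushD f).obj (SiteCmp.inD O_C F)) := fun q => by
  rcases lt_or_ge q 0 with h0 | h0
  · haveI := isLeftExact_rpushD f (SiteCmp.inD O_C F) 0 inferInstance
    obtain ⟨Z, hZ, hPZ⟩ := P.exists_prop_of_containsZero
    exact P.prop_of_iso (hZ.iso (isZero_of_isGE _ 0 q h0)) hPZ
  · obtain ⟨p, rfl⟩ := Int.eq_ofNat_of_zero_le h0
    obtain ⟨e⟩ := nonempty_homology_rpushD_single f F p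
    exact P.prop_of_iso e.symm (h p)

theorem cohIn_truncGE {A : Type*} [Category A] [Abelian A] [HasDerivedCategory A] (P : ObjectProperty A)
    [WSerre.IsWeakSerre P] (X : DerivedCategory A) (hX : WSerre.cohIn P X) (n : ℤ) :
    WSerre.cohIn P (((TStructure.t (C := A)).truncGE n).obj X) := fun q => by
  rcases lt_or_ge q n with h | h
  · haveI : (((TStructure.t (C := A)).truncGE n).obj X).IsGE n :=
      inferInstanceAs ((TStructure.t (C := A)).IsGE (((TStructure.t (C := A)).truncGE n).obj X) n)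
    obtain ⟨Z, hZ, hPZ⟩ := P.exists_prop_of_containsZero
    exact P.prop_of_iso (hZ.iso (isZero_of_isGE _ n q h)) hPZ
  · haveI := DCohLib.isIso_homology_truncGEπ X n q h
    exact P.prop_of_iso (asIso ((homologyFunctor A q).map (((TStructure.t (C := A)).truncGEπ n).app X))) (hX q)

/-- Cohomology of derived direct images of truncations is stable in high degrees. -/
theorem isIso_homology_rpush_truncTowerMap [HasInjectiveResolutions (ModSite.Mod O_C)]
    (A : ObjectProperty (ModSite.Mod O_C)) [WSerre.IsWeakSerre A] (N : ℤ)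
    (h : ∀ F, A F → ∀ p : ℕ, N < (p : ℤ) → IsZero ((f.Rpush p).obj F))
    (X : DerivedCategory (ModSite.Mod O_C)) (hX : WSerre.cohIn A X) (j : ℤ) (m : ℕ) (hm : N - (m : ℤ) ≤ j) :
    IsIso ((homologyFunctor (ModSite.Mod O_D) j).map ((SiteCmp.RpushD f).map (CohCx.truncTowerMap X m))) := by
  obtain ⟨_, _⟩ := exists_triangulated_rpushD f
  obtain ⟨Y, g, δ, hT⟩ := distinguished_cocone_triangle₁ (CohCx.truncTowerMap X m)
  let i : ℤ := -((m : ℤ) + 1)
  haveI : (CohCx.truncTower X (m + 1)).IsGE i := TStructure.t.isGE_truncGE_obj X _ i (by omega)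
  haveI : (CohCx.truncTower X m).IsGE (i + 1) := TStructure.t.isGE_truncGE_obj X _ (i + 1) (by omega)
  obtain ⟨W, ⟨eY⟩, ⟨eW⟩⟩ := RlimCrit.exists_fibre_iso_single g (CohCx.truncTowerMap X m) δ hT i
    fun k hk => RlimCrit.isIso_homology_truncTowerMap X m k (by omega)
  have hW : A W := A.prop_of_iso eW.symm (cohIn_truncGE A X hX _ i)
  let eS : Y ≅ (SiteCmp.inD O_C W)⟦-i⟧ :=
    eY ≪≫ (((singleFunctors (ModSite.Mod O_C)).shiftIso (-i) i 0 (by omega)).app W).symm
  have hz : ∀ r, j ≤ r → IsZero ((homologyFunctor (ModSite.Mod O_D) r).obj ((SiteCmp.RpushD f).obj Y)) :=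
    fun r hr => (isZero_homology_rpushD_single f W N (h W hW) (-i + r) (by omega)).of_iso
      ((homologyFunctor _ r).mapIso ((SiteCmp.RpushD f).mapIso eS ≪≫ ((SiteCmp.RpushD f).commShiftIso (-i)).app _) ≪≫
        ((homologyFunctor (ModSite.Mod O_D) 0).shiftIso (-i) r (-i + r) rfl).app _)
  let T := (SiteCmp.RpushD f).mapTriangle.obj (Triangle.mk g (CohCx.truncTowerMap X m) δ)
  have hT' : T ∈ distTriang _ := (SiteCmp.RpushD f).map_distinguished _ hT
  haveI : Mono ((homologyFunctor _ j).map T.mor₂) :=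
    (HomologySequence.mono_homologyMap_mor₂_iff _ hT' j).2 ((hz j le_rfl).eq_of_src _ _)
  haveI : Epi ((homologyFunctor _ j).map T.mor₂) :=
    (HomologySequence.epi_homologyMap_mor₂_iff _ hT' j (j + 1) rfl).2 ((hz (j + 1) (by omega)).eq_of_tgt _ _)
  exact isIso_of_mono_of_epi ((homologyFunctor _ j).map T.mor₂)

/-- Local bijectivity of late transition maps gives stabilisation of the derived limit. -/
theorem isIso_homology_limit {E : ℕ → DerivedCategory (ModSite.Mod O_D)} {t : ∀ n, E (n + 1) ⟶ E n} [HasProduct E]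
    {L : DerivedCategory (ModSite.Mod O_D)} {a : ∀ n, L ⟶ E n} (hL : CohCx.IsRlimVia E t L a) (B' : Set D)
    (hB' : ∀ U : D, ∃ (ι : Type u) (Y : ι → D) (g : ∀ i, Y i ⟶ U), Sieve.ofArrows Y g ∈ K U ∧ ∀ i, Y i ∈ B')
    (j : ℤ) (n : ℕ) (hiso : ∀ m, n ≤ m → IsIso ((homologyFunctor (ModSite.Mod O_D) j).map (t m)))
    (key : ∀ W ∈ B', ∃ N : ℕ, ∀ T ∈ K W, ∃ (ι : Type u) (Y : ι → D) (g : ∀ i, Y i ⟶ W),
      Sieve.ofArrows Y g ∈ K W ∧ ∀ i, T.arrows (g i) ∧ ∀ m, N ≤ m →
        (∀ z : RlimCrit.sgl j (freeOn O_D (Y i)) ⟶ E (m + 1), z ≫ t m = 0 → z = 0) ∧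
        (∀ w : RlimCrit.sgl j (freeOn O_D (Y i)) ⟶ E m, ∃ v, v ≫ t m = w) ∧
        ∀ w : (RlimCrit.sgl j (freeOn O_D (Y i)))⟦(1 : ℤ)⟧ ⟶ E m, ∃ v, v ≫ t m = w) :
    IsIso ((homologyFunctor (ModSite.Mod O_D) j).map (a n)) := by
  haveI : IsGrothendieckAbelian.{u} (ModSite.Mod O_D) := ModTensor.isGrothendieckAbelian_mod O_D
  haveI : HasExt.{u} (ModSite.Mod O_D) := inferInstance
  haveI := RlimCrit.mono_homology_of_isRlimVia
    (RlimCrit.isLocGen_mod (ModSite.ringSh O_D)) B' hB' hL j n hiso fun W hW T hT => by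
      obtain ⟨N, hN⟩ := key W hW
      obtain ⟨ι, Y, g, hS, hY⟩ := hN (T N) (hT N)
      exact ⟨ι, Y, g, hS, fun i => ⟨N, (hY i).1, fun m hm => ((hY i).2 m hm).1,
        fun m hm => ((hY i).2 m hm).2.2⟩⟩
  haveI := RlimCrit.epi_homology_of_isRlimVia
    (RlimCrit.isLocGen_mod (ModSite.ringSh O_D)) B' hB' hL j n hiso fun W hW T hT => by
      obtain ⟨N, hN⟩ := key W hW
      obtain ⟨ι, Y, g, hS, hY⟩ := hN (T N) (hT N)
      exact ⟨ι, Y, g, hS, fun i => ⟨N, (hY i).1, fun m hm => ((hY i).2 m hm).2.1⟩⟩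
  exact isIso_of_mono_of_epi _

/-- An object with cohomology in a class of finite cohomological dimension is the limit of its truncations. -/
theorem isRlimVia_of_cd {C : Type u} [SmallCategory C] {J : GrothendieckTopology C} (O : Sheaf J CommRingCat.{u})
    (A : ObjectProperty (ModSite.Mod O)) (B : Set C)
    (hB : ∀ U : C, ∃ (ι : Type u) (Y : ι → C) (g : ∀ i, Y i ⟶ U), Sieve.ofArrows Y g ∈ J U ∧ ∀ i, Y i ∈ B)
    (hA : ∀ V ∈ B, ∃ d : ℕ, ∀ T ∈ J V, ∃ (ι : Type u) (Y : ι → C) (g : ∀ i, Y i ⟶ V),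
      (∀ i, T.arrows (g i)) ∧ Sieve.ofArrows Y g ∈ J V ∧
      ∀ (i : ι) (F : ModSite.Mod O), A F → ∀ k : ℕ, d < k → Subsingleton (ModSite.HU O F k (Y i)))
    (X : DerivedCategory (ModSite.Mod O)) (hX : WSerre.cohIn A X) [HasProduct (CohCx.truncTower X)] :
    CohCx.IsRlimVia (CohCx.truncTower X) (CohCx.truncTowerMap X) X (CohCx.toTruncTower X) :=
  RlimCrit.isRlimVia_mod O X B hB fun q W hW T hT => by
    obtain ⟨d, hd⟩ := hA W hW
    obtain ⟨ι, Y, g, hg, hS, hv⟩ := hd (T (d + q.natAbs)) (hT _)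
    exact ⟨ι, Y, g, hS, fun i => ⟨d + q.natAbs, hg i, fun n hn k hk => hv i _ (hX _) k (by omega)⟩⟩

/-- Maps out of a free module are sections. -/
abbrev secFree {C : Type u} [SmallCategory C] {J : GrothendieckTopology C} (O : Sheaf J CommRingCat.{u}) (U : C)
    (M : ModSite.Mod O) :=
  ((RlimCrit.modFreeAdj (ModSite.ringSh O)).homEquiv (yoneda.obj U) M).trans yonedaEquiv

/-- Free modules pull back to free modules. -/
def pullFreeOnIso (V : D) : f.pull.obj (freeOn O_D V) ≅ freeOn O_C (f.fn.obj V) :=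
  Coyoneda.fullyFaithful.preimageIso (X := op (freeOn O_C (f.fn.obj V))) (Y := op (f.pull.obj (freeOn O_D V)))
    (NatIso.ofComponents (fun M => ((secFree O_C (f.fn.obj V) M).trans
      ((secFree O_D V (f.push.obj M)).symm.trans (f.adj.homEquiv (freeOn O_D V) M).symm)).toIso) fun {M M'} k => by
      ext φ
      show (f.adj.homEquiv (freeOn O_D V) M').symm
          ((secFree O_D V (f.push.obj M')).symm (secFree O_C (f.fn.obj V) M' (φ ≫ k))) =
        (f.adj.homEquiv (freeOn O_D V) M).symm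
          ((secFree O_D V (f.push.obj M)).symm (secFree O_C (f.fn.obj V) M φ)) ≫ k
      rw [← Adjunction.homEquiv_naturality_right_symm]
      refine congrArg _ ((Equiv.symm_apply_eq _).2 ?_)
      simp only [secFree, Equiv.trans_apply, Adjunction.homEquiv_naturality_right, yonedaEquiv_comp,
        Equiv.symm_trans_apply, Equiv.apply_symm_apply]
      rfl) |>.unop

end Groth.Agent.SiteCmpLib
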