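import Groth.Prelude.Def_SiteCmp
import Groth.Agent.KInj.DerivedAdj
import Groth.Agent.ModTensor.Sheaf

/-!
# Derived inverse and direct images along a flat morphism of ringed sites
-/

set_option autoImplicit false
set_option linter.style.haveILetI false

universe u

open CategoryTheory CategoryTheory.Limits Opposite

attribute [local instance] HasDerivedCategory.standard

noncomputable section

namespace Groth.Agent.SiteCmpLib

variable {C : Type u} [SmallCategory C] {J : GrothendieckTopology C} {O_C : Sheaf J CommRingCat.{u}}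
  {D : Type u} [SmallCategory D] {K : GrothendieckTopology D} {O_D : Sheaf K CommRingCat.{u}}
  (f : ModSite.RMor O_C O_D)

theorem hres_mod {C : Type u} [SmallCategory C] {J : GrothendieckTopology C} (O : Sheaf J CommRingCat.{u}) :
    ∀ K : CochainComplex (ModSite.Mod O) ℤ,
      ∃ (I : CochainComplex (ModSite.Mod O) ℤ) (φ : K ⟶ I), I.IsKInjective ∧ QuasiIso φ :=
  haveI : IsGrothendieckAbelian.{u} (ModSite.Mod O) := ModTensor.isGrothendieckAbelian_mod O
  KInj.hres_of_isGrothendieckAbelian (ModSite.Mod O)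

/-- The comparison `Qh ∘ f_* ⟶ Rf_* ∘ Qh`. -/
abbrev rpushUnit [SiteCmp.HasRpushD f] : SiteCmp.pushKh f ⟶ DerivedCategory.Qh ⋙ SiteCmp.RpushD f :=
  (SiteCmp.pushKh f).totalRightDerivedUnit DerivedCategory.Qh
    (HomotopyCategory.quasiIso (ModSite.Mod O_C) (ComplexShape.up ℤ))

theorem isIso_rpushUnit_app [SiteCmp.HasRpushD f] (I : CochainComplex (ModSite.Mod O_C) ℤ) [I.IsKInjective] :
    IsIso ((rpushUnit f).app ((HomotopyCategory.quotient (ModSite.Mod O_C) (ComplexShape.up ℤ)).obj I)) :=
  KInj.isIso_app_of_isKInjective (hres_mod O_C) _ _ (rpushUnit f) I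

/-- For flat `f`, `f^*` is left adjoint to `Rf_*`. -/
def pullRpushAdj [PreservesFiniteLimits f.pull] [SiteCmp.HasRpushD f] : SiteCmp.pullD f ⊣ SiteCmp.RpushD f := by
  let α := f.pull.mapDerivedCategoryFactorsh
  haveI : (SiteCmp.pullD f).IsLeftDerivedFunctor α.hom
      (HomotopyCategory.quasiIso (ModSite.Mod O_D) (ComplexShape.up ℤ)) :=
    Functor.isLeftDerivedFunctor_of_inverts _ _ α
  haveI : (SiteCmp.pullD f ⋙ SiteCmp.RpushD f).IsLeftDerivedFunctor
      ((Functor.associator _ _ _).inv ≫ Functor.whiskerRight α.hom (SiteCmp.RpushD f))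
      (HomotopyCategory.quasiIso (ModSite.Mod O_D) (ComplexShape.up ℤ)) :=
    Functor.isLeftDerivedFunctor_of_inverts _ _
      ((Functor.associator _ _ _).symm ≪≫ Functor.isoWhiskerRight α (SiteCmp.RpushD f))
  haveI : (SiteCmp.RpushD f ⋙ SiteCmp.pullD f).IsRightDerivedFunctor
      (Functor.whiskerRight (rpushUnit f) (SiteCmp.pullD f) ≫ (Functor.associator _ _ _).hom)
      (HomotopyCategory.quasiIso (ModSite.Mod O_C) (ComplexShape.up ℤ)) :=
    KInj.isRightDerivedFunctor_of_isIso_h (hres_mod O_C) _ _ fun I hI => by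
      haveI := hI
      haveI := isIso_rpushUnit_app f I
      simp only [NatTrans.comp_app, Functor.associator_hom_app, Functor.whiskerRight_app]
      infer_instance
  exact (KInj.homotopyAdjunction f.adj).derived
    (HomotopyCategory.quasiIso (ModSite.Mod O_D) (ComplexShape.up ℤ))
    (HomotopyCategory.quasiIso (ModSite.Mod O_C) (ComplexShape.up ℤ)) α.hom (rpushUnit f)

end Groth.Agent.SiteCmpLib
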