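import Groth.Agent.SiteCmpLib.Equiv

/-!
# Equivalences of bounded derived categories by dévissage
-/

set_option autoImplicit false
set_option linter.style.haveILetI false

universe w w' v v' u u'

open CategoryTheory CategoryTheory.Limits CategoryTheory.Pretriangulated DerivedCategory

noncomputable section

namespace Groth.Agent.SiteCmpLib

section Triangulated

variable {T₁ : Type u} [Category.{v} T₁] [Preadditive T₁] [HasZeroObject T₁] [HasShift T₁ ℤ]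
  [∀ n : ℤ, (shiftFunctor T₁ n).Additive] [Pretriangulated T₁]
  {T₂ : Type u'} [Category.{v'} T₂] [Preadditive T₂] [HasZeroObject T₂] [HasShift T₂ ℤ]
  [∀ n : ℤ, (shiftFunctor T₂ n).Additive] [Pretriangulated T₂]
  (F : T₁ ⥤ T₂) [F.CommShift ℤ] [F.IsTriangulated]

/-- The functor is bijective on the morphisms from `X` to `Y`. -/
def BijHom (X Y : T₁) : Prop := Function.Bijective fun φ : X ⟶ Y => F.map φ

variable {F}

omit [Preadditive T₁] [HasZeroObject T₁] [HasShift T₁ ℤ] [∀ n : ℤ, (shiftFunctor T₁ n).Additive]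
  [Pretriangulated T₁] [Preadditive T₂] [HasZeroObject T₂] [HasShift T₂ ℤ]
  [∀ n : ℤ, (shiftFunctor T₂ n).Additive] [Pretriangulated T₂] [F.CommShift ℤ] [F.IsTriangulated] in
theorem BijHom.of_iso {X X' Y Y' : T₁} (e : X ≅ X') (e' : Y ≅ Y') (h : BijHom F X Y) : BijHom F X' Y' := by
  refine ⟨fun a b hab => ?_, fun ψ => ?_⟩
  · rw [← cancel_epi e.hom, ← cancel_mono e'.inv]
    exact h.1 (by simp only [Functor.map_comp]; rw [show F.map a = F.map b from hab])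
  · obtain ⟨φ, hφ⟩ := h.2 (F.map e.hom ≫ ψ ≫ F.map e'.inv)
    refine ⟨e.inv ≫ φ ≫ e'.hom, ?_⟩
    simp only [Functor.map_comp]
    rw [show F.map φ = _ from hφ]
    simp [← Functor.map_comp_assoc, ← Functor.map_comp]

omit [HasZeroObject T₁] [Preadditive T₁] [∀ n : ℤ, (shiftFunctor T₁ n).Additive] [Pretriangulated T₁] [HasZeroObject T₂]
  [Preadditive T₂] [∀ n : ℤ, (shiftFunctor T₂ n).Additive] [Pretriangulated T₂] [F.IsTriangulated] in
theorem BijHom.shift {X Y : T₁} (h : BijHom F X Y) (n : ℤ) : BijHom F (X⟦n⟧) (Y⟦n⟧) := by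
  have hn : ∀ φ : X ⟶ Y, F.map (φ⟦n⟧') =
      (F.commShiftIso n).hom.app X ≫ (F.map φ)⟦n⟧' ≫ (F.commShiftIso n).inv.app Y := fun φ => by
    rw [F.commShiftIso_inv_naturality, Iso.hom_inv_id_app_assoc]
  refine ⟨fun a b hab => ?_, fun ψ => ?_⟩
  · obtain ⟨a, rfl⟩ := (shiftFunctor T₁ n).map_surjective a
    obtain ⟨b, rfl⟩ := (shiftFunctor T₁ n).map_surjective b
    replace hab : F.map (a⟦n⟧') = F.map (b⟦n⟧') := hab
    rw [hn, hn, cancel_epi, cancel_mono] at hab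
    rw [h.1 ((shiftFunctor T₂ n).map_injective hab)]
  · obtain ⟨φ', hφ'⟩ := (shiftFunctor T₂ n).map_surjective
      ((F.commShiftIso n).inv.app X ≫ ψ ≫ (F.commShiftIso n).hom.app Y)
    obtain ⟨φ, rfl⟩ := h.2 φ'
    refine ⟨φ⟦n⟧', ?_⟩
    show F.map (φ⟦n⟧') = ψ
    rw [hn, hφ']
    simp

theorem bijHom_left {T : Triangle T₁} (hT : T ∈ distTriang T₁) {Y : T₁} (h₁ : BijHom F T.obj₁ Y)
    (h₁' : BijHom F (T.obj₁⟦(1 : ℤ)⟧) Y) (h₃ : BijHom F T.obj₃ Y) (h₃' : BijHom F (T.obj₃⟦(-1 : ℤ)⟧) Y) :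
    BijHom F T.obj₂ Y := by
  have hT' := F.map_distinguished _ hT
  refine ⟨(injective_iff_map_eq_zero (F.mapAddHom (X := T.obj₂) (Y := Y))).2 fun φ hφ => ?_, fun φ' => ?_⟩
  · replace hφ : F.map φ = 0 := hφ
    obtain ⟨ψ, rfl⟩ := Triangle.yoneda_exact₂ T hT φ (h₁.1 (by
      show F.map (T.mor₁ ≫ φ) = F.map 0
      rw [F.map_comp, hφ, comp_zero, F.map_zero]))
    obtain ⟨χ', hχ'⟩ := Triangle.yoneda_exact₃ (F.mapTriangle.obj T) hT' (F.map ψ)
      ((F.map_comp _ _).symm.trans hφ)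
    obtain ⟨χ, hχ⟩ := h₁'.2 ((F.commShiftIso (1 : ℤ)).hom.app T.obj₁ ≫ χ')
    have hψ : ψ = T.mor₃ ≫ χ := h₃.1 (by
      show F.map ψ = F.map (T.mor₃ ≫ χ)
      rw [F.map_comp, show F.map χ = _ from hχ, hχ']
      exact Category.assoc _ _ _)
    rw [hψ, ← Category.assoc, comp_distTriang_mor_zero₂₃ T hT, zero_comp]
  · obtain ⟨α, hα⟩ := h₁.2 (F.map T.mor₁ ≫ φ')
    have hz := comp_distTriang_mor_zero₁₂ _ (inv_rot_of_distTriang _ hT)
    have h0 : T.invRotate.mor₁ ≫ α = 0 := h₃'.1 (by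
      show F.map (T.invRotate.mor₁ ≫ α) = F.map 0
      refine (F.map_comp _ _).trans ((congrArg (F.map T.invRotate.mor₁ ≫ ·) hα).trans ?_)
      exact ((Category.assoc _ _ _).symm.trans
        ((congrArg (· ≫ φ') ((F.map_comp _ _).symm.trans ((congrArg F.map hz).trans (F.map_zero _ _)))).trans
          zero_comp)).trans (F.map_zero _ _).symm)
    obtain ⟨β₀, hβ₀⟩ := Triangle.yoneda_exact₂ T.invRotate (inv_rot_of_distTriang _ hT) α h0
    let β : T.obj₂ ⟶ Y := β₀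
    have hβ : α = T.mor₁ ≫ β := hβ₀
    obtain ⟨γ', hγ'⟩ := Triangle.yoneda_exact₂ (F.mapTriangle.obj T) hT' (φ' - F.map β) (by
      show F.map T.mor₁ ≫ (φ' - F.map β) = 0
      rw [Preadditive.comp_sub, ← F.map_comp, ← hβ, show F.map α = _ from hα, sub_self])
    obtain ⟨γ, rfl⟩ := h₃.2 γ'
    refine ⟨β + T.mor₂ ≫ γ, ?_⟩
    show F.map (β + T.mor₂ ≫ γ) = φ'
    rw [F.map_add, F.map_comp, show F.map T.mor₂ ≫ F.map γ = φ' - F.map β from hγ'.symm, add_sub_cancel]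

theorem bijHom_right {T : Triangle T₁} (hT : T ∈ distTriang T₁) {X : T₁} (h₁ : BijHom F X T.obj₁)
    (h₁' : BijHom F X (T.obj₁⟦(1 : ℤ)⟧)) (h₃ : BijHom F X T.obj₃) (h₃' : BijHom F X (T.obj₃⟦(-1 : ℤ)⟧)) :
    BijHom F X T.obj₂ := by
  have hT' := F.map_distinguished _ hT
  refine ⟨(injective_iff_map_eq_zero (F.mapAddHom (X := X) (Y := T.obj₂))).2 fun φ hφ => ?_, fun φ' => ?_⟩
  · replace hφ : F.map φ = 0 := hφ
    obtain ⟨ψ, rfl⟩ := Triangle.coyoneda_exact₂ T hT φ (h₃.1 (by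
      show F.map (φ ≫ T.mor₂) = F.map 0
      rw [F.map_comp, hφ, zero_comp, F.map_zero]))
    obtain ⟨χ', hχ'⟩ := Triangle.coyoneda_exact₂ (F.mapTriangle.obj T.invRotate)
      (F.map_distinguished _ (inv_rot_of_distTriang _ hT)) (F.map ψ) ((F.map_comp _ _).symm.trans hφ)
    obtain ⟨χ, rfl⟩ := h₃'.2 χ'
    have hψ : ψ = χ ≫ T.invRotate.mor₁ := h₁.1 (hχ'.trans (F.map_comp χ T.invRotate.mor₁).symm)
    have hz : T.invRotate.mor₁ ≫ T.mor₁ = 0 := comp_distTriang_mor_zero₁₂ _ (inv_rot_of_distTriang _ hT)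
    rw [hψ]
    exact (Category.assoc _ _ _).trans ((congrArg (χ ≫ ·) hz).trans comp_zero)
  · obtain ⟨γ, hγ⟩ := h₃.2 (φ' ≫ F.map T.mor₂)
    have h0 : γ ≫ T.mor₃ = 0 := h₁'.1 (by
      show F.map (γ ≫ T.mor₃) = F.map 0
      rw [F.map_comp, show F.map γ = _ from hγ, Category.assoc, ← F.map_comp, comp_distTriang_mor_zero₂₃ T hT,
        F.map_zero, F.map_zero, comp_zero])
    obtain ⟨β, hβ⟩ := Triangle.coyoneda_exact₃ T hT γ h0
    obtain ⟨α', hα'⟩ := Triangle.coyoneda_exact₂ (F.mapTriangle.obj T) hT' (φ' - F.map β) (by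
      show (φ' - F.map β) ≫ F.map T.mor₂ = 0
      rw [Preadditive.sub_comp, ← F.map_comp β, ← hβ, show F.map γ = _ from hγ, sub_self])
    obtain ⟨α, rfl⟩ := h₁.2 α'
    refine ⟨β + α ≫ T.mor₁, ?_⟩
    show F.map (β + α ≫ T.mor₁) = φ'
    rw [F.map_add, F.map_comp, show F.map α ≫ F.map T.mor₁ = φ' - F.map β from hα'.symm, add_sub_cancel]

end Triangulated

section Derived

variable {A : Type u} [Category.{v} A] [Abelian A] [HasDerivedCategory.{w} A]
  {B : Type u'} [Category.{v'} B] [Abelian B] [HasDerivedCategory.{w'} B]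
  (F : A ⥤ B) [F.Additive] [PreservesFiniteLimits F] [PreservesFiniteColimits F]

/-- Objects whose shifts receive bijectively from `X`. -/
def bijTo (X : DerivedCategory A) : ObjectProperty (DerivedCategory A) :=
  fun Y => ∀ n : ℤ, BijHom F.mapDerivedCategory X (Y⟦n⟧)

/-- Objects mapping bijectively to the shifts of `Y`. -/
def bijFrom (Y : DerivedCategory A) : ObjectProperty (DerivedCategory A) :=
  fun X => ∀ n : ℤ, BijHom F.mapDerivedCategory X (Y⟦n⟧)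

instance (X : DerivedCategory A) : (bijTo F X).IsClosedUnderIsomorphisms :=
  ⟨fun e h n => (h n).of_iso (Iso.refl _) ((shiftFunctor _ n).mapIso e)⟩

instance (Y : DerivedCategory A) : (bijFrom F Y).IsClosedUnderIsomorphisms :=
  ⟨fun e h n => (h n).of_iso e (Iso.refl _)⟩

theorem bijTo_shift (X Y : DerivedCategory A) (m : ℤ) (h : bijTo F X Y) : bijTo F X (Y⟦m⟧) := fun n =>
  (h (m + n)).of_iso (Iso.refl _) ((shiftFunctorAdd (DerivedCategory A) m n).app Y)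

theorem bijFrom_shift (X Y : DerivedCategory A) (m : ℤ) (h : bijFrom F Y X) : bijFrom F Y (X⟦m⟧) := fun n =>
  ((h (n - m)).shift m).of_iso (Iso.refl _)
    ((shiftFunctorAdd' (DerivedCategory A) (n - m) m n (by omega)).app Y).symm

theorem bijTo_triangle (X : DerivedCategory A) (T : Triangle (DerivedCategory A)) (hT : T ∈ distTriang _)
    (h₁ : bijTo F X T.obj₁) (h₃ : bijTo F X T.obj₃) : bijTo F X T.obj₂ := fun n => by
  refine bijHom_right (T := (Triangle.shiftFunctor (DerivedCategory A) n).obj T)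
    (Triangle.shift_distinguished T hT n) (h₁ n) ?_ (h₃ n) ?_
  · exact (h₁ (n + 1)).of_iso (Iso.refl _) ((shiftFunctorAdd (DerivedCategory A) n 1).app T.obj₁)
  · exact (h₃ (n + -1)).of_iso (Iso.refl _) ((shiftFunctorAdd (DerivedCategory A) n (-1)).app T.obj₃)

theorem bijFrom_triangle (Y : DerivedCategory A) (T : Triangle (DerivedCategory A)) (hT : T ∈ distTriang _)
    (h₁ : bijFrom F Y T.obj₁) (h₃ : bijFrom F Y T.obj₃) : bijFrom F Y T.obj₂ := fun n =>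
  bijHom_left hT (h₁ n) (bijFrom_shift F _ _ 1 h₁ n) (h₃ n) (bijFrom_shift F _ _ (-1) h₃ n)

/-- Full faithfulness on bounded objects by dévissage. -/
theorem bijective_map_of_bounded (P : ObjectProperty A)
    (h : ∀ M N, P M → P N → bijTo F ((singleFunctor A 0).obj M) ((singleFunctor A 0).obj N))
    (X Y : DerivedCategory A) (hX : WSerre.cohIn P X) (hY : WSerre.cohIn P Y) (a b a' b' : ℤ) [X.IsGE a] [X.IsLE b]
    [Y.IsGE a'] [Y.IsLE b'] :
    Function.Bijective fun φ : X ⟶ Y => F.mapDerivedCategory.map φ := by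
  have hY' : ∀ M, P M → bijTo F ((singleFunctor A 0).obj M) Y := fun M hM =>
    prop_of_bounded (bijTo F _) (fun Z m => bijTo_shift F _ Z m) (bijTo_triangle F _) (b' - a').toNat a' Y ‹_›
      ((TStructure.t (C := A)).isLE_of_le Y b' _ (by omega)) fun q => h M _ hM (hY q)
  exact ((prop_of_bounded (bijFrom F Y) (fun Z m => bijFrom_shift F Z Y m) (bijFrom_triangle F Y) (b - a).toNat a X
    ‹_› ((TStructure.t (C := A)).isLE_of_le X b _ (by omega)) fun q => hY' _ (hX q)) 0).of_iso (Iso.refl _)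
      ((shiftFunctorZero (DerivedCategory A) ℤ).app Y)

/-- Objects isomorphic to images of bounded objects with cohomology in a subcategory. -/
def bddImage (P : ObjectProperty A) : ObjectProperty (DerivedCategory B) :=
  fun M => ∃ K, WSerre.cohInBdd P K ∧ Nonempty (F.mapDerivedCategory.obj K ≅ M)

instance (P : ObjectProperty A) : (bddImage F P).IsClosedUnderIsomorphisms :=
  ⟨fun e ⟨K, hK, ⟨e'⟩⟩ => ⟨K, hK, ⟨e' ≪≫ e⟩⟩⟩

theorem cohInBdd_triangle (P : ObjectProperty A) [WSerre.IsWeakSerre P] (T : Triangle (DerivedCategory A))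
    (hT : T ∈ distTriang _) (h₁ : WSerre.cohInBdd P T.obj₁) (h₃ : WSerre.cohInBdd P T.obj₃) :
    WSerre.cohInBdd P T.obj₂ := by
  obtain ⟨c₁, ⟨a₁, g₁⟩, b₁, l₁⟩ := h₁
  obtain ⟨c₃, ⟨a₃, g₃⟩, b₃, l₃⟩ := h₃
  have ga₁ := (TStructure.t (C := A)).isGE_of_ge T.obj₁ (min a₁ a₃) a₁ (min_le_left _ _)
  have ga₃ := (TStructure.t (C := A)).isGE_of_ge T.obj₃ (min a₁ a₃) a₃ (min_le_right _ _)
  have la₁ := (TStructure.t (C := A)).isLE_of_le T.obj₁ b₁ (max b₁ b₃) (le_max_left _ _)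
  have la₃ := (TStructure.t (C := A)).isLE_of_le T.obj₃ b₃ (max b₁ b₃) (le_max_right _ _)
  exact ⟨cohIn_triangle P T hT c₁ c₃, ⟨_, (TStructure.t (C := A)).isGE₂ T hT _ ga₁ ga₃⟩,
    ⟨_, (TStructure.t (C := A)).isLE₂ T hT _ la₁ la₃⟩⟩

/-- Essential surjectivity on bounded objects by dévissage. -/
theorem exists_preimage_of_bounded (P : ObjectProperty A) [WSerre.IsWeakSerre P] (Q : ObjectProperty B)
    (hess : ∀ M, Q M → ∃ M', P M' ∧ Nonempty (F.obj M' ≅ M))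
    (hff : ∀ X Y, WSerre.cohInBdd P X → WSerre.cohInBdd P Y → BijHom F.mapDerivedCategory X Y)
    (M : DerivedCategory B) (hM : WSerre.cohIn Q M) (a b : ℤ) [M.IsGE a] [M.IsLE b] :
    bddImage F P M := by
  have hsh : ∀ (K : DerivedCategory A) (n : ℤ), WSerre.cohInBdd P K → WSerre.cohInBdd P (K⟦n⟧) :=
    fun K n hK => ⟨cohIn_shift P K n hK.1, ObjectProperty.le_shift _ n K hK.2⟩
  refine prop_of_bounded (bddImage F P)
    (fun Z n ⟨K, hK, ⟨e⟩⟩ => ⟨K⟦n⟧, hsh K n hK,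
      ⟨(F.mapDerivedCategory.commShiftIso n).app K ≪≫ (shiftFunctor _ n).mapIso e⟩⟩)
    (fun T hT ⟨K₁, hK₁, ⟨e₁⟩⟩ ⟨K₃, hK₃, ⟨e₃⟩⟩ => ?_) (b - a).toNat a M ‹_›
    ((TStructure.t (C := B)).isLE_of_le M b _ (by omega)) fun q => ?_
  · obtain ⟨d, hd⟩ := (hff K₃ (K₁⟦(1 : ℤ)⟧) hK₃ (hsh K₁ 1 hK₁)).2
      (e₃.hom ≫ T.mor₃ ≫ e₁.inv⟦(1 : ℤ)⟧' ≫ (F.mapDerivedCategory.commShiftIso (1 : ℤ)).inv.app K₁)
    replace hd : F.mapDerivedCategory.map d = _ := hd
    obtain ⟨K₂, f, g, hK⟩ := distinguished_cocone_triangle₂ d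
    have hcomm : (F.mapDerivedCategory.map d ≫ (F.mapDerivedCategory.commShiftIso (1 : ℤ)).hom.app K₁) ≫
        e₁.hom⟦(1 : ℤ)⟧' = e₃.hom ≫ T.mor₃ := by
      rw [hd]
      simp only [Category.assoc, Iso.inv_hom_id_app_assoc, ← Functor.map_comp, Iso.inv_hom_id]
      exact congrArg (e₃.hom ≫ ·) ((congrArg (T.mor₃ ≫ ·) ((shiftFunctor (DerivedCategory B) (1 : ℤ)).map_id _)).trans (Category.comp_id _))
    let S := F.mapDerivedCategory.mapTriangle.obj (Triangle.mk f g d)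
    have hS : S ∈ distTriang _ := F.mapDerivedCategory.map_distinguished _ hK
    obtain ⟨c, hc₁, hc₂⟩ := complete_distinguished_triangle_morphism₂ S T hS hT e₁.hom e₃.hom hcomm
    have hc : IsIso c := isIso₂_of_isIso₁₃ (Triangle.homMk S T e₁.hom c e₃.hom hc₁ hc₂ hcomm) hS hT
      (inferInstanceAs (IsIso e₁.hom)) (inferInstanceAs (IsIso e₃.hom))
    exact ⟨K₂, cohInBdd_triangle P _ hK hK₁ hK₃, ⟨@asIso _ _ _ _ c hc⟩⟩
  · obtain ⟨M', hM', ⟨e⟩⟩ := hess _ (hM q)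
    exact ⟨(singleFunctor A 0).obj M', ⟨cohIn_single P M' hM', ⟨0, inferInstance⟩, ⟨0, inferInstance⟩⟩,
      ⟨(F.mapDerivedCategorySingleFunctor 0).app M' ≪≫ (singleFunctor B 0).mapIso e⟩⟩

end Derived

end Groth.Agent.SiteCmpLib
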