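import Groth.Agent.SiteCmpLib.Unbounded
import Groth.Agent.TildeD.Homology

/-!
# The equivalence on objects with cohomology in matching subcategories, unbounded case
-/

set_option autoImplicit false
set_option linter.style.haveILetI false

universe u w w' v v'

open CategoryTheory CategoryTheory.Limits CategoryTheory.Pretriangulated Opposite DerivedCategory

noncomputable section

namespace Groth.Agent.SiteCmpLib

section General

variable {A : Type (u + 1)} [Category.{u} A] [Abelian A] [HasDerivedCategory.{w} A]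
  {B : Type (u + 1)} [Category.{u} B] [Abelian B] [HasDerivedCategory.{w'} B]
  (F : A ⥤ B) [F.Additive] [PreservesFiniteLimits F] [PreservesFiniteColimits F]

theorem isIso_homology_mapDerived_map {X X' : DerivedCategory A} (g : X ⟶ X') (j : ℤ)
    [IsIso ((homologyFunctor A j).map g)] : IsIso ((homologyFunctor B j).map (F.mapDerivedCategory.map g)) :=
  (NatIso.isIso_map_iff (TildeD.nu F j) g).2 (inferInstanceAs (IsIso (F.map ((homologyFunctor A j).map g))))

variable {G : DerivedCategory B ⥤ DerivedCategory A} (adj : F.mapDerivedCategory ⊣ G)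

include adj in
/-- Stabilisation along truncations extends the equivalence from bounded below to all objects. -/
theorem equivalence_cohIn (PB : ObjectProperty B) [WSerre.IsWeakSerre PB] (PA : ObjectProperty A)
    [WSerre.IsWeakSerre PA] (hmap : ∀ M, PA M → PB (F.obj M))
    (hess : ∀ M, PB M → ∃ M' : A, PA M' ∧ Nonempty (F.obj M' ≅ M))
    (hunit : ∀ M, PA M → IsIso (adj.unit.app ((singleFunctor A 0).obj M)))
    (hstab : ∀ X, WSerre.cohIn PB X → ∀ (n : ℕ) (j : ℤ), -(n : ℤ) ≤ j →
      IsIso ((homologyFunctor A j).map (G.map (CohCx.toTruncTower X n)))) :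
    (∀ Y, WSerre.cohIn PA Y → WSerre.cohIn PB (F.mapDerivedCategory.obj Y) ∧ IsIso (adj.unit.app Y)) ∧
    (∀ X, WSerre.cohIn PB X → WSerre.cohIn PA (G.obj X) ∧ IsIso (adj.counit.app X)) := by
  have hplus : ∀ X, WSerre.cohIn PB X → ∀ n : ℕ,
      WSerre.cohIn PA (G.obj (CohCx.truncTower X n)) ∧ IsIso (adj.counit.app (CohCx.truncTower X n)) :=
    fun X hX n => by
      haveI : (CohCx.truncTower X n).IsGE (-(n : ℤ)) := TStructure.t.isGE_truncGE_obj X _ _ le_rfl
      obtain ⟨h₁, -, h₃⟩ := equivalence_plus F adj PB PA hess hunit (CohCx.truncTower X n) (-(n : ℤ)) (cohIn_truncGE PB X hX _)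
      exact ⟨h₁, h₃⟩
  refine ⟨fun Y hY => ⟨cohIn_mapDerived F PA PB hmap Y hY, ?_⟩, fun X hX => ⟨fun j => ?_, ?_⟩⟩
  · rw [DerivedCategory.isIso_iff]
    intro j
    obtain ⟨n, hn⟩ : ∃ n : ℕ, -(n : ℤ) ≤ j := ⟨(-j).toNat, by omega⟩
    let X := F.mapDerivedCategory.obj Y
    have hX : WSerre.cohIn PB X := cohIn_mapDerived F PA PB hmap Y hY
    haveI hGE : (CohCx.truncTower Y n).IsGE (-(n : ℤ)) := TStructure.t.isGE_truncGE_obj Y _ _ le_rfl
    haveI := isLeftExact_mapDerived F (CohCx.truncTower Y n) _ hGE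
    obtain ⟨φ, hφ⟩ : ∃ φ : CohCx.truncTower X n ⟶ F.mapDerivedCategory.obj (CohCx.truncTower Y n),
        CohCx.toTruncTower X n ≫ φ = F.mapDerivedCategory.map (CohCx.toTruncTower Y n) :=
      ⟨_, (TStructure.t (C := B)).π_descTruncGE _ _⟩
    haveI : IsIso φ := by
      rw [DerivedCategory.isIso_iff]
      intro i
      rcases lt_or_ge i (-(n : ℤ)) with hi | hi
      · haveI : (CohCx.truncTower X n).IsGE (-(n : ℤ)) := TStructure.t.isGE_truncGE_obj X _ _ le_rfl
        exact (isZero_of_isGE _ _ i hi).isIso (isZero_of_isGE _ (-(n : ℤ)) i hi) _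
      · haveI := DCohLib.isIso_homology_truncGEπ X _ i hi
        haveI := DCohLib.isIso_homology_truncGEπ Y _ i hi
        haveI : IsIso ((homologyFunctor B i).map (CohCx.toTruncTower X n) ≫ (homologyFunctor B i).map φ) := by
          rw [← Functor.map_comp, hφ]
          exact isIso_homology_mapDerived_map F _ i
        exact IsIso.of_isIso_comp_left ((homologyFunctor B i).map (CohCx.toTruncTower X n)) _
    haveI := hstab X hX n j hn
    haveI := DCohLib.isIso_homology_truncGEπ Y _ j hn
    haveI : IsIso (adj.unit.app (CohCx.truncTower Y n)) :=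
      isIso_unit_app_of_plus F adj _ (-(n : ℤ)) fun q => hunit _ (cohIn_truncGE PA Y hY _ q)
    haveI : IsIso ((homologyFunctor A j).map (G.map (F.mapDerivedCategory.map (CohCx.toTruncTower Y n)))) := by
      rw [← hφ, G.map_comp, Functor.map_comp]; infer_instance
    haveI : IsIso ((homologyFunctor A j).map (adj.unit.app Y) ≫
        (homologyFunctor A j).map (G.map (F.mapDerivedCategory.map (CohCx.toTruncTower Y n)))) := by
      rw [← Functor.map_comp]
      erw [← adj.unit.naturality (CohCx.toTruncTower Y n)]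
      rw [Functor.id_map, Functor.map_comp]
      infer_instance
    exact IsIso.of_isIso_comp_right _
      ((homologyFunctor A j).map (G.map (F.mapDerivedCategory.map (CohCx.toTruncTower Y n))))
  · obtain ⟨n, hn⟩ : ∃ n : ℕ, -(n : ℤ) ≤ j := ⟨(-j).toNat, by omega⟩
    haveI := hstab X hX n j hn
    exact PA.prop_of_iso (asIso ((homologyFunctor A j).map (G.map (CohCx.toTruncTower X n)))).symm
      ((hplus X hX n).1 j)
  · rw [DerivedCategory.isIso_iff]
    intro j
    obtain ⟨n, hn⟩ : ∃ n : ℕ, -(n : ℤ) ≤ j := ⟨(-j).toNat, by omega⟩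
    haveI := hstab X hX n j hn
    haveI := DCohLib.isIso_homology_truncGEπ X _ j hn
    haveI := (hplus X hX n).2
    haveI := isIso_homology_mapDerived_map F (G.map (CohCx.toTruncTower X n)) j
    haveI : IsIso ((homologyFunctor B j).map (adj.counit.app X) ≫
        (homologyFunctor B j).map (CohCx.toTruncTower X n)) := by
      rw [← Functor.map_comp]
      erw [← adj.counit.naturality (CohCx.toTruncTower X n)]
      rw [Functor.comp_map, Functor.map_comp]
      infer_instance
    exact IsIso.of_isIso_comp_right _ ((homologyFunctor B j).map (CohCx.toTruncTower X n))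

end General

attribute [local instance] HasDerivedCategory.standard

variable {C : Type u} [SmallCategory C] {J : GrothendieckTopology C} {O_C : Sheaf J CommRingCat.{u}}
  {D : Type u} [SmallCategory D] {K : GrothendieckTopology D} {O_D : Sheaf K CommRingCat.{u}}
  (f : ModSite.RMor O_C O_D) [SiteCmp.HasRpushD f] [PreservesFiniteLimits f.pull]
  (adj : SiteCmp.pullD f ⊣ SiteCmp.RpushD f)

include adj in
/-- Higher direct images of the objects in the source subcategory. -/
theorem rpush_of_unit [HasInjectiveResolutions (ModSite.Mod O_C)]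
    (A : ObjectProperty (ModSite.Mod O_C)) [WSerre.IsWeakSerre A]
    (A' : ObjectProperty (ModSite.Mod O_D)) [WSerre.IsWeakSerre A']
    (h2c : ∀ F, A F → ∃ F', A' F' ∧ Nonempty (f.pull.obj F' ≅ F))
    (h3 : ∀ F', A' F' → IsIso (adj.unit.app (SiteCmp.inD O_D F'))) (F : ModSite.Mod O_C) (hF : A F) (p : ℕ) :
    A' ((f.Rpush p).obj F) ∧ ((0 : ℤ) < (p : ℤ) → IsZero ((f.Rpush p).obj F)) := by
  obtain ⟨e⟩ := nonempty_homology_rpushD_single f F p
  obtain ⟨F', hF', ⟨i⟩⟩ := h2c F hF
  haveI := h3 F' hF'
  refine ⟨A'.prop_of_iso e ((equivalence_plus f.pull adj A A' h2c h3 ((singleFunctor _ 0).obj F) 0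
    (cohIn_single A F hF)).1 _), fun hp => (isZero_of_isLE ((singleFunctor _ 0).obj F') 0 _ hp).of_iso
      (e.symm ≪≫ (homologyFunctor _ _).mapIso (Iso.symm ?_))⟩
  exact asIso (adj.unit.app (SiteCmp.inD O_D F')) ≪≫ (SiteCmp.RpushD f).mapIso
    ((f.pull.mapDerivedCategorySingleFunctor 0).app F' ≪≫ (singleFunctor _ 0).mapIso i)

end Groth.Agent.SiteCmpLib
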