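import Groth.Agent.SiteCmpLib.Eps

/-!
# Comparison of two topologies: the derived equivalence on objects with cohomology in a subcategory
-/

set_option autoImplicit false
set_option linter.style.haveILetI false

universe u

open CategoryTheory CategoryTheory.Limits CategoryTheory.Abelian Opposite DerivedCategory

attribute [local instance] HasDerivedCategory.standard

noncomputable section

namespace Groth.Agent.SiteCmpLib

variable {C : Type u} [SmallCategory C] {J J' : GrothendieckTopology C} (h : J' ≤ J) (O : Sheaf J CommRingCat.{u})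
  [SiteCmp.HasRpushD (SiteCmp.eps h O)]
  (A : ObjectProperty (ModSite.Mod O)) [WSerre.IsWeakSerre A] (B : Set C)
  (h3 : ∀ U : C, ∃ (ι : Type u) (Y : ι → C) (g : ∀ i, Y i ⟶ U), Sieve.ofArrows Y g ∈ J' U ∧ ∀ i, Y i ∈ B)
  (h4 : ∀ U ∈ B, ∀ F : ModSite.Mod O, A F → ∀ p : ℕ, 0 < p → Subsingleton (ModSite.HU O F p U))

include h3 h4 in
theorem isLE_rpushD_single (F : ModSite.Mod O) (hF : A F) :
    ((SiteCmp.RpushD (SiteCmp.eps h O)).obj (SiteCmp.inD O F)).IsLE 0 := by
  haveI : IsGrothendieckAbelian.{u} (ModSite.Mod O) := ModTensor.isGrothendieckAbelian_mod O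
  haveI : HasExt.{u} (ModSite.Mod O) := inferInstance
  let P := RlimCrit.isLocGen_mod (J := J') (ModSite.ringSh (SiteCmp.epsRing h O))
  refine (isLE_iff _ _).2 fun q hq => (IsZero.iff_id_eq_zero _).2 (P.det _ fun U x => ?_)
  rw [Category.comp_id]
  obtain ⟨S, hS, hξ⟩ := RlimCrit.exists_local_class P x
  obtain ⟨ι, Y, g, hc, hY⟩ := RlimCrit.exists_family_le B h3 S hS
  refine P.sep_family _ Y g hc fun i => ?_
  obtain ⟨ξ, hξ'⟩ := hξ (g i) (hY i).1
  obtain ⟨k, rfl⟩ := Int.eq_ofNat_of_zero_le hq.le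
  haveI : Subsingleton (RlimCrit.sgl (k : ℤ) (freeOn O ((SiteCmp.eps h O).fn.obj (Y i))) ⟶ SiteCmp.inD O F) :=
    RlimCrit.subsingleton_hom_single _ _ (k : ℤ) 0 k (zero_add _).symm
      (subsingleton_ext_pullFree h O A B h4 F hF (Y i) (hY i).2 k (by omega))
  haveI := (homRpushFree (SiteCmp.eps h O) (Y i) (k : ℤ) (SiteCmp.inD O F)).subsingleton
  rw [← hξ', Subsingleton.elim ξ 0, RlimCrit.cl_zero]

variable [PreservesFiniteLimits (SiteCmp.eps h O).pull]
  (adj : SiteCmp.pullD (SiteCmp.eps h O) ⊣ SiteCmp.RpushD (SiteCmp.eps h O))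

include h3 h4 in
theorem isIso_unit_single (M : ModSite.Mod (SiteCmp.epsRing h O)) (hM : A.map (SiteCmp.eps h O).push M) :
    IsIso (adj.unit.app (SiteCmp.inD (SiteCmp.epsRing h O) M)) := by
  obtain ⟨hA, hu⟩ := (prop_map_iff h O A M).1 hM
  let f := SiteCmp.eps h O
  let S := singleFunctor (ModSite.Mod (SiteCmp.epsRing h O)) 0
  let Fd := f.pull.mapDerivedCategory
  let Z := (SiteCmp.RpushD f).obj (Fd.obj (S.obj M))
  let eZ : Z ≅ (SiteCmp.RpushD f).obj (SiteCmp.inD O (f.pull.obj M)) :=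
    (SiteCmp.RpushD f).mapIso ((f.pull.mapDerivedCategorySingleFunctor 0).app M)
  haveI hLE := isLE_rpushD_single h O A B h3 h4 (f.pull.obj M) hA
  haveI hGE := isLeftExact_rpushD f (SiteCmp.inD O (f.pull.obj M)) 0 inferInstance
  obtain ⟨W, ⟨eW⟩⟩ := exists_iso_singleFunctor_obj_of_isGE_of_isLE
    ((SiteCmp.RpushD f).obj (SiteCmp.inD O (f.pull.obj M))) 0
  let e : Z ≅ S.obj W := eZ ≪≫ eW
  have hbij : ∀ N, Function.Bijective fun a : S.obj N ⟶ S.obj M => a ≫ adj.unit.app (S.obj M) := fun N => by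
    have hpull : Function.Bijective fun φ : N ⟶ M => f.pull.map φ := by
      haveI := hu
      rw [← (f.adj.homEquiv N (f.pull.obj M)).comp_bijective,
        show (f.adj.homEquiv N (f.pull.obj M)) ∘ (fun φ : N ⟶ M => f.pull.map φ) =
            fun φ : N ⟶ M => φ ≫ f.adj.unit.app M from
          funext fun φ => (f.adj.homEquiv_unit _ _ _).trans (f.adj.unit.naturality φ).symm]
      exact (asIso (f.adj.unit.app M)).homToEquiv.bijective
    have hS : ∀ {X Y : ModSite.Mod (SiteCmp.epsRing h O)}, Function.Bijective fun φ : X ⟶ Y => S.map φ :=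
      fun {X Y} => ((Functor.FullyFaithful.ofFullyFaithful S).homEquiv (X := X) (Y := Y)).bijective
    have hSO : Function.Bijective fun φ : f.pull.obj N ⟶ f.pull.obj M => (singleFunctor (ModSite.Mod O) 0).map φ :=
      ((Functor.FullyFaithful.ofFullyFaithful (singleFunctor (ModSite.Mod O) 0)).homEquiv).bijective
    let η := f.pull.mapDerivedCategorySingleFunctor 0
    have hFd : Function.Bijective fun a : S.obj N ⟶ S.obj M => Fd.map a := by
      rw [← Function.Bijective.of_comp_iff _ hS]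
      rw [← ((η.app N).homCongr (η.app M)).comp_bijective]
      convert hSO.comp hpull using 1
      funext φ
      simp only [Function.comp_apply, Iso.homCongr_apply, Iso.app_inv, Iso.app_hom]
      exact (Iso.inv_comp_eq (η.app N)).2 (η.hom.naturality φ)
    have h2 : (fun a : S.obj N ⟶ S.obj M => a ≫ adj.unit.app (S.obj M)) =
        (adj.homEquiv (S.obj N) (Fd.obj (S.obj M))) ∘ fun a => Fd.map a := by
      funext a
      exact (adj.unit.naturality a).trans (adj.homEquiv_unit _ _ _).symm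
    rw [h2]
    exact (adj.homEquiv _ _).bijective.comp hFd
  obtain ⟨a, ha⟩ := (hbij W).2 e.inv
  refine ⟨e.hom ≫ a, (hbij M).1 ?_, ?_⟩
  · show (adj.unit.app (S.obj M) ≫ e.hom ≫ a) ≫ adj.unit.app (S.obj M) = 𝟙 (S.obj M) ≫ adj.unit.app (S.obj M)
    exact (Category.assoc _ _ _).trans ((congrArg (adj.unit.app (S.obj M) ≫ ·)
      ((Category.assoc _ _ _).trans ((congrArg (e.hom ≫ ·) ha).trans e.hom_inv_id))).trans
      ((Category.comp_id _).trans (Category.id_comp _).symm))
  · exact (Category.assoc _ _ _).trans ((congrArg (e.hom ≫ ·) ha).trans e.hom_inv_id)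

include h3 h4 in
/-- The derived equivalence for a comparison of two topologies. -/
theorem equivalence_cohIn_eps :
    (∀ Y, WSerre.cohIn (A.map (SiteCmp.eps h O).push) Y →
      WSerre.cohIn A ((SiteCmp.pullD (SiteCmp.eps h O)).obj Y) ∧ IsIso (adj.unit.app Y)) ∧
    (∀ X, WSerre.cohIn A X →
      WSerre.cohIn (A.map (SiteCmp.eps h O).push) ((SiteCmp.RpushD (SiteCmp.eps h O)).obj X) ∧
      IsIso (adj.counit.app X)) := by
  haveI : IsGrothendieckAbelian.{u} (ModSite.Mod O) := ModTensor.isGrothendieckAbelian_mod O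
  haveI := isWeakSerre_map_push h O A B h3 h4
  let f := SiteCmp.eps h O
  have hB : ∀ U : C, ∃ (ι : Type u) (Y : ι → C) (g : ∀ i, Y i ⟶ U), Sieve.ofArrows Y g ∈ J U ∧ ∀ i, Y i ∈ B :=
    fun U => by
      obtain ⟨ι, Y, g, hc, hY⟩ := h3 U
      exact ⟨ι, Y, g, h U hc, hY⟩
  refine equivalence_cohIn f.pull adj A (A.map f.push) (fun M hM => ((prop_map_iff h O A M).1 hM).1)
    (fun F hF => ⟨f.push.obj F, (ObjectProperty.prop_map_iff _ _ _).2 ⟨F, hF, ⟨Iso.refl _⟩⟩, ⟨pullPushIso h O F⟩⟩)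
    (isIso_unit_single h O A B h3 h4 adj) fun X hX n j hj => ?_
  refine isIso_homology_rpush_truncGEπ_of_upstairs f A B B hB (fun V hV => ⟨0, fun T hT => ?_⟩) h3 0
    (fun F hF p hp => ?_) X hX (fun V hV => ⟨0, fun T hT => ?_⟩) n j (by omega)
  · obtain ⟨ι, Y, g, hc, hY⟩ := RlimCrit.exists_family_le B hB T hT
    exact ⟨ι, Y, g, fun i => (hY i).1, hc, fun i F hF k hk => h4 _ (hY i).2 F hF k hk⟩
  · obtain ⟨e⟩ := nonempty_homology_rpushD_single f F p
    haveI := isLE_rpushD_single h O A B h3 h4 F hF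
    exact (isZero_of_isLE ((SiteCmp.RpushD f).obj (SiteCmp.inD O F)) 0 _ hp).of_iso e.symm
  · obtain ⟨ι, Y, g, hc, hY⟩ := RlimCrit.exists_family_le B h3 T hT
    exact ⟨ι, Y, g, fun i => (hY i).1, hc, fun i F hF k hk => h4 _ (hY i).2 F hF k hk⟩

end Groth.Agent.SiteCmpLib
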