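import Groth.Agent.SiteCmpLib.CohPre
import Groth.Agent.SiteBase.AcyclicPush
import Groth.Agent.SiteBase.Rpush
import Groth.Agent.SiteBase.ExtAdjoint
import Mathlib.CategoryTheory.Adjunction.Whiskering
import Mathlib.CategoryTheory.Comma.Over.Pullback

/-!
# Restriction and direct image between localised sites
-/

set_option autoImplicit false
set_option linter.style.haveILetI false

universe u

open CategoryTheory CategoryTheory.Limits CategoryTheory.Abelian Opposite Groth.Agent.SiteBase

noncomputable section

attribute [local instance 10000] Groth.Agent.SiteCmpLib.hasSheafify_ab Groth.Agent.SiteCmpLib.hasExt_ab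

namespace Groth.Agent.SiteCmpLib

variable {C : Type u} [SmallCategory C] (J : GrothendieckTopology C) {X Z : C} (v : Z ⟶ X)

/-- Restriction of abelian sheaves along an arrow. -/
abbrev rs : Sheaf (J.over X) AddCommGrpCat.{u} ⥤ Sheaf (J.over Z) AddCommGrpCat.{u} :=
  CohSite.push (J.over X) (J.over Z) (Over.map v)

theorem hasComponentTerminals_map : KInj.HasComponentTerminals (Over.map v).op := by
  intro V
  refine ⟨{g : V.unop.left ⟶ Z // g ≫ v = V.unop.hom}, fun g =>
    CostructuredArrow.mk (Y := Opposite.op (Over.mk g.1))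
      (Over.homMk (𝟙 V.unop.left) (by simp [g.2]) : V.unop ⟶ (Over.map v).obj (Over.mk g.1)).op, fun x => ?_⟩
  let f : V.unop.left ⟶ x.left.unop.left := x.hom.unop.left
  have hf : (f ≫ x.left.unop.hom) ≫ v = V.unop.hom := by
    rw [Category.assoc]; exact Over.w x.hom.unop
  let k : Over.mk (f ≫ x.left.unop.hom) ⟶ x.left.unop := Over.homMk f
  refine ⟨⟨⟨f ≫ x.left.unop.hom, hf⟩, CostructuredArrow.homMk k.op ?_⟩, trivial, ?_⟩
  · apply Quiver.Hom.unop_inj
    ext
    simp [k, f]
  · rintro ⟨⟨g, hg⟩, hh⟩ -
    have h1 : f = hh.left.unop.left := by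
      have := congrArg (fun m => m.unop.left) (CostructuredArrow.w hh)
      simpa [f] using this.symm
    have h2 : g = f ≫ x.left.unop.hom := by
      rw [h1]
      exact (Over.w hh.left.unop).symm
    subst h2
    refine Sigma.ext rfl (heq_of_eq ?_)
    apply CostructuredArrow.hom_ext
    apply Quiver.Hom.unop_inj
    apply Over.OverMorphism.ext
    simp [k, h1]

/-- Extension by zero along an arrow. -/
abbrev rsLeft : Sheaf (J.over Z) AddCommGrpCat.{u} ⥤ Sheaf (J.over X) AddCommGrpCat.{u} :=
  Functor.sheafPullbackConstruction.sheafPullback (Over.map v) AddCommGrpCat.{u} (J.over Z) (J.over X)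

/-- Extension by zero is left adjoint to restriction. -/
def rsLeftAdj : rsLeft J v ⊣ rs J v :=
  Functor.sheafPullbackConstruction.sheafAdjunctionContinuous (Over.map v) AddCommGrpCat.{u}
    (J.over Z) (J.over X)

instance preservesMonomorphisms_rsLeft : (rsLeft J v).PreservesMonomorphisms := by
  haveI := KInj.preservesMonomorphisms_lan (A := AddCommGrpCat.{u}) (Over.map v).op (hasComponentTerminals_map v)
  exact ⟨fun f _ => inferInstanceAs (Mono ((presheafToSheaf (J.over X) _).map ((Over.map v).op.lan.map f.hom)))⟩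

instance preservesFiniteLimits_rs : PreservesFiniteLimits (rs J v) := by
  haveI := (rsLeftAdj J v).rightAdjoint_preservesLimits
  infer_instance

instance preservesFiniteColimits_rs : PreservesFiniteColimits (rs J v) := by
  haveI := ((Over.map v).sheafAdjunctionCocontinuous AddCommGrpCat.{u}
    (J.over Z) (J.over X)).leftAdjoint_preservesColimits
  infer_instance

instance injective_rs (I : Sheaf (J.over X) AddCommGrpCat.{u}) [Injective I] : Injective ((rs J v).obj I) :=
  Injective.injective_of_adjoint (rsLeftAdj J v) I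

/-- The tautological section. -/
def rsη (U : Over Z) : freeAb (J.over Z) U ⟶ (rs J v).obj (freeAb (J.over X) ((Over.map v).obj U)) :=
  (secEquiv U ((rs J v).obj _)).symm (secEquiv ((Over.map v).obj U) _ (𝟙 _))

theorem secEquiv_rsη (U : Over Z) :
    secEquiv U ((rs J v).obj _) (rsη J v U) = secEquiv ((Over.map v).obj U) _ (𝟙 _) :=
  Equiv.apply_symm_apply _ _

theorem secEquiv_rsη_comp (U : Over Z) {F : Sheaf (J.over X) AddCommGrpCat.{u}}
    (φ : freeAb (J.over X) ((Over.map v).obj U) ⟶ F) :
    secEquiv U ((rs J v).obj F) (rsη J v U ≫ (rs J v).map φ) = secEquiv ((Over.map v).obj U) F φ := by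
  rw [secEquiv_comp]
  refine (congrArg _ (secEquiv_rsη J v U)).trans ?_
  exact (secEquiv_comp _ (𝟙 _) φ).symm.trans (congrArg _ (Category.id_comp _))

theorem rsη_naturality {U U' : Over Z} (a : U' ⟶ U) :
    freeAbMap a ≫ rsη J v U = rsη J v U' ≫ (rs J v).map (freeAbMap ((Over.map v).map a)) := by
  apply (secEquiv U' _).injective
  rw [secEquiv_rsη_comp, secEquiv_map]
  refine (congrArg _ (secEquiv_rsη J v U)).trans ?_
  exact (secEquiv_map _ (𝟙 _)).symm.trans (congrArg _ (Category.comp_id _))

/-- The cohomology of a restriction. -/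
def rsHom (F : Sheaf (J.over X) AddCommGrpCat.{u}) (n : ℕ) :
    (Over.map v).op ⋙ HP F n ⟶ HP ((rs J v).obj F) n where
  app U := AddCommGrpCat.ofHom (extUnitHom (rsη J v U.unop) F n)
  naturality U U' a := by
    ext x
    let y : Ext.{u} (freeAb (J.over X) ((Over.map v).obj U.unop)) F n := x
    show extUnitHom (rsη J v U'.unop) F n ((Ext.mk₀ (freeAbMap ((Over.map v).map a.unop))).comp y (zero_add n)) =
      (Ext.mk₀ (freeAbMap a.unop)).comp (extUnitHom (rsη J v U.unop) F n y) (zero_add n)
    rw [extUnitHom_apply, extUnitHom_apply, Ext.mapExactFunctor_comp, Ext.mapExactFunctor_mk₀,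
      Ext.mk₀_comp_mk₀_assoc, ← rsη_naturality, ← Ext.mk₀_comp_mk₀_assoc]

theorem rsHom_app (F : Sheaf (J.over X) AddCommGrpCat.{u}) (n : ℕ) (U : Over Z)
    (x : HC F n ((Over.map v).obj U)) :
    (rsHom J v F n).app (op U) x = extUnitHom (rsη J v U) F n x := rfl

/-- The cohomology of a restriction is the restricted cohomology. -/
def rsIso (F : Sheaf (J.over X) AddCommGrpCat.{u}) (n : ℕ) :
    (Over.map v).op ⋙ HP F n ≅ HP ((rs J v).obj F) n :=
  haveI : ∀ U, IsIso ((rsHom J v F n).app U) := fun U => (ConcreteCategory.isIso_iff_bijective _).2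
    (extUnitHom_bijective (rsη J v U.unop) (fun G => by
      refine ⟨fun a b e => (secEquiv _ G).injective ?_, fun g => ⟨(secEquiv _ G).symm (secEquiv U.unop _ g), ?_⟩⟩
      · rw [← secEquiv_rsη_comp, ← secEquiv_rsη_comp]
        exact congrArg _ e
      · apply (secEquiv U.unop _).injective
        exact (secEquiv_rsη_comp J v U.unop _).trans (Equiv.apply_symm_apply _ _))
      (fun I _ m => Ext.subsingleton_of_injective (freeAb (J.over Z) U.unop) ((rs J v).obj I) m) n F)
  haveI := NatIso.isIso_of_isIso_app (rsHom J v F n)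
  asIso (rsHom J v F n)

theorem rsIso_hom (F : Sheaf (J.over X) AddCommGrpCat.{u}) (n : ℕ) : (rsIso J v F n).hom = rsHom J v F n := rfl

theorem rsHom_map {F G : Sheaf (J.over X) AddCommGrpCat.{u}} (φ : F ⟶ G) (n : ℕ) (U : Over Z)
    (x : HC F n ((Over.map v).obj U)) :
    (rsHom J v G n).app (op U) ((HPmap φ n).app (op ((Over.map v).obj U)) x) =
      (HPmap ((rs J v).map φ) n).app (op U) ((rsHom J v F n).app (op U) x) := by
  let y : Ext.{u} (freeAb (J.over X) ((Over.map v).obj U)) F n := x
  show extUnitHom (rsη J v U) G n (y.comp (Ext.mk₀ φ) (add_zero n)) =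
    (extUnitHom (rsη J v U) F n y).comp (Ext.mk₀ ((rs J v).map φ)) (add_zero n)
  rw [extUnitHom_comp, Ext.mapExactFunctor_mk₀]

theorem rsHom_δ {S : ShortComplex (Sheaf (J.over X) AddCommGrpCat.{u})} (hS : S.ShortExact) (n : ℕ) (U : Over Z)
    (x : HC S.X₃ n ((Over.map v).obj U)) :
    (rsHom J v S.X₁ (n + 1)).app (op U) ((HPδ hS n).app (op ((Over.map v).obj U)) x) =
      (HPδ (hS.map_of_exact (rs J v)) n).app (op U) ((rsHom J v S.X₃ n).app (op U) x) := by
  let y : Ext.{u} (freeAb (J.over X) ((Over.map v).obj U)) S.X₃ n := x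
  show extUnitHom (rsη J v U) S.X₁ (n + 1) (y.comp hS.extClass rfl) =
    (extUnitHom (rsη J v U) S.X₃ n y).comp (hS.map_of_exact (rs J v)).extClass rfl
  rw [extUnitHom_comp, Ext.mapExactFunctor_extClass]
  rfl

theorem rsHom_sec (F : Sheaf (J.over X) AddCommGrpCat.{u}) (U : Over Z) (s : F.obj.obj (op ((Over.map v).obj U))) :
    (rsHom J v F 0).app (op U) ((secNat F).hom.app (op ((Over.map v).obj U)) s) =
      (secNat ((rs J v).obj F)).hom.app (op U) s := by
  rw [secNat_app]
  refine ((rsHom_app J v F 0 U (secC ((Over.map v).obj U) F s)).trans ?_).trans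
    ((secNat_app ((rs J v).obj F) U s).trans (secC_apply U ((rs J v).obj F) s)).symm
  rw [secC_apply, extUnitHom_mk₀]
  refine congrArg _ ((secEquiv U _).injective ?_)
  exact ((secEquiv_rsη_comp J v U _).trans (Equiv.apply_symm_apply _ _)).trans (Equiv.apply_symm_apply _ _).symm

section Pullback

variable {Y : C} (f : X ⟶ Y) [HasPullbacksAlong f]

/-- Right Kan extension along `Over.map f` is composition with base change. -/
def ranMapIso : (Over.map f).op.ran ≅
    (Functor.whiskeringLeft (Over Y)ᵒᵖ (Over X)ᵒᵖ AddCommGrpCat.{u}).obj (Over.pullback f).op :=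
  ((Over.map f).op.ranAdjunction AddCommGrpCat.{u}).rightAdjointUniq ((Over.mapPullbackAdj f).op.whiskerLeft _)

/-- The direct image, computed on presheaves. -/
def cocontPreIso : (Over.map f).sheafPushforwardCocontinuous AddCommGrpCat.{u} (J.over X) (J.over Y) ⋙
    sheafToPresheaf (J.over Y) AddCommGrpCat.{u} ≅ sheafToPresheaf (J.over X) AddCommGrpCat.{u} ⋙
      (Functor.whiskeringLeft (Over Y)ᵒᵖ (Over X)ᵒᵖ AddCommGrpCat.{u}).obj (Over.pullback f).op :=
  (Over.map f).sheafPushforwardCocontinuousCompSheafToPresheafIso AddCommGrpCat.{u} (J.over X) (J.over Y) ≪≫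
    Functor.isoWhiskerLeft _ (ranMapIso f)

/-- Direct image along an arrow with base changes. -/
def ps : Sheaf (J.over X) AddCommGrpCat.{u} ⥤ Sheaf (J.over Y) AddCommGrpCat.{u} where
  obj G := ⟨(Over.pullback f).op ⋙ G.obj, Presheaf.isSheaf_of_iso_iff ((cocontPreIso J f).app G) |>.1
    (((Over.map f).sheafPushforwardCocontinuous AddCommGrpCat.{u} (J.over X) (J.over Y)).obj G).property⟩
  map φ := ⟨Functor.whiskerLeft (Over.pullback f).op φ.hom⟩

instance additive_ps : (ps J f).Additive where

/-- Restriction is left adjoint to direct image. -/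
def rsPsAdj : rs J f ⊣ ps J f :=
  Adjunction.mkOfUnitCounit
    { unit :=
        { app := fun F => ⟨{ app := fun U => F.obj.map ((Over.mapPullbackAdj f).counit.app U.unop).op
                             naturality := fun U U' a => by
                               show F.obj.map a ≫ _ = _ ≫ F.obj.map ((Over.map f).map ((Over.pullback f).map a.unop)).op
                               rw [← F.obj.map_comp, ← F.obj.map_comp]
                               exact congrArg F.obj.map (Quiver.Hom.unop_inj
                                 ((Over.mapPullbackAdj f).counit.naturality a.unop).symm) }⟩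
          naturality := fun F G φ => by
            ext U x
            exact (NatTrans.naturality_apply φ.hom ((Over.mapPullbackAdj f).counit.app U.unop).op x).symm }
      counit :=
        { app := fun G => ⟨{ app := fun U => G.obj.map ((Over.mapPullbackAdj f).unit.app U.unop).op
                             naturality := fun U U' a => by
                               show G.obj.map ((Over.pullback f).map ((Over.map f).map a.unop)).op ≫ _ = _ ≫ G.obj.map a
                               rw [← G.obj.map_comp, ← G.obj.map_comp]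
                               exact congrArg G.obj.map (Quiver.Hom.unop_inj
                                 ((Over.mapPullbackAdj f).unit.naturality a.unop).symm) }⟩
          naturality := fun F G φ => by
            ext U x
            exact (NatTrans.naturality_apply φ.hom ((Over.mapPullbackAdj f).unit.app U.unop).op x).symm }
      left_triangle := by
        ext F U x
        show F.obj.map ((Over.map f).map ((Over.mapPullbackAdj f).unit.app U.unop)).op
          (F.obj.map ((Over.mapPullbackAdj f).counit.app ((Over.map f).obj U.unop)).op x) = x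
        exact ConcreteCategory.congr_hom ((F.obj.map_comp _ _).symm.trans ((congrArg F.obj.map
          (congrArg Quiver.Hom.op ((Over.mapPullbackAdj f).left_triangle_components U.unop))).trans (F.obj.map_id _))) x
      right_triangle := by
        ext G U x
        show G.obj.map ((Over.mapPullbackAdj f).unit.app ((Over.pullback f).obj U.unop)).op
          (G.obj.map ((Over.pullback f).map ((Over.mapPullbackAdj f).counit.app U.unop)).op x) = x
        exact ConcreteCategory.congr_hom ((G.obj.map_comp _ _).symm.trans ((congrArg G.obj.map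
          (congrArg Quiver.Hom.op ((Over.mapPullbackAdj f).right_triangle_components U.unop))).trans (G.obj.map_id _))) x }

instance preservesFiniteLimits_ps : PreservesFiniteLimits (ps J f) := by
  haveI := (rsPsAdj J f).rightAdjoint_preservesLimits
  infer_instance

instance injective_ps (I : Sheaf (J.over X) AddCommGrpCat.{u}) [Injective I] : Injective ((ps J f).obj I) := by
  haveI : (rs J f).PreservesMonomorphisms := preservesMonomorphisms_of_preservesLimitsOfShape _
  exact Injective.injective_of_adjoint (rsPsAdj J f) I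

/-- The counit, with its source written as a composite. -/
def psCounit (G : Sheaf (J.over X) AddCommGrpCat.{u}) : (rs J f).obj ((ps J f).obj G) ⟶ G :=
  (rsPsAdj J f).counit.app G

/-- The unit, with its target written as a composite. -/
def psUnit (F : Sheaf (J.over Y) AddCommGrpCat.{u}) : F ⟶ (ps J f).obj ((rs J f).obj F) :=
  (rsPsAdj J f).unit.app F

theorem psUnit_psCounit (F : Sheaf (J.over Y) AddCommGrpCat.{u}) :
    (rs J f).map (psUnit J f F) ≫ psCounit J f ((rs J f).obj F) = 𝟙 _ :=
  (rsPsAdj J f).left_triangle_components F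

/-- The transpose of a map of presheaves for the adjunction between composition and base change. -/
def transposeCounit {P : (Over Y)ᵒᵖ ⥤ AddCommGrpCat.{u}} {Q : (Over X)ᵒᵖ ⥤ AddCommGrpCat.{u}}
    (α : (Over.map f).op ⋙ P ⟶ Q) : P ⟶ (Over.pullback f).op ⋙ Q :=
  Functor.whiskerRight (NatTrans.op (Over.mapPullbackAdj f).counit) P ≫
    Functor.whiskerLeft (Over.pullback f).op α

theorem transposeCounit_apply {P : (Over Y)ᵒᵖ ⥤ AddCommGrpCat.{u}} {Q R : (Over X)ᵒᵖ ⥤ AddCommGrpCat.{u}}
    (α : (Over.map f).op ⋙ P ⟶ R) (β : R ⟶ Q) (U : Over Y) (x : P.obj (op U)) :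
    (transposeCounit f (α ≫ β)).app (op U) x = β.app (op ((Over.pullback f).obj U))
      (α.app (op ((Over.pullback f).obj U)) (P.map ((Over.mapPullbackAdj f).counit.app U).op x)) :=
  rfl

theorem transposeCounit_unit {P P' : (Over Y)ᵒᵖ ⥤ AddCommGrpCat.{u}} {R R' : (Over X)ᵒᵖ ⥤ AddCommGrpCat.{u}}
    (α : (Over.map f).op ⋙ P ⟶ R) (α' : (Over.map f).op ⋙ P' ⟶ R') (φ : P' ⟶ P) (φ' : R' ⟶ R) (β : R ⟶ R')
    (sq : ∀ (V : Over X) (z : P'.obj (op ((Over.map f).obj V))),
      α.app (op V) (φ.app (op ((Over.map f).obj V)) z) = φ'.app (op V) (α'.app (op V) z))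
    (hid : ∀ (V : Over X) (z : R'.obj (op V)), β.app (op V) (φ'.app (op V) z) = z) (U : Over Y) (x : P'.obj (op U)) :
    (transposeCounit f (α ≫ β)).app (op U) (φ.app (op U) x) =
      α'.app (op ((Over.pullback f).obj U)) (P'.map ((Over.mapPullbackAdj f).counit.app U).op x) := by
  rw [transposeCounit_apply]
  refine (congrArg (fun z => β.app (op ((Over.pullback f).obj U)) (α.app (op ((Over.pullback f).obj U)) z))
    (NatTrans.naturality_apply φ ((Over.mapPullbackAdj f).counit.app U).op x).symm).trans ?_
  exact (congrArg _ (sq _ _)).trans (hid _ _)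

/-- Classes of a direct image give classes on the base change. -/
def psToHP (G : Sheaf (J.over X) AddCommGrpCat.{u}) (n : ℕ) :
    HP ((ps J f).obj G) n ⟶ (Over.pullback f).op ⋙ HP G n :=
  transposeCounit f (rsHom J f ((ps J f).obj G) n ≫ HPmap (psCounit J f G) n)

theorem psToHP_app (G : Sheaf (J.over X) AddCommGrpCat.{u}) (n : ℕ) (U : Over Y)
    (x : HC ((ps J f).obj G) n U) :
    (psToHP J f G n).app (op U) x = (HPmap ((psCounit J f G)) n).app (op ((Over.pullback f).obj U))
      ((rsHom J f ((ps J f).obj G) n).app (op ((Over.pullback f).obj U))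
        ((HP ((ps J f).obj G) n).map ((Over.mapPullbackAdj f).counit.app U).op x)) :=
  transposeCounit_apply f _ _ U x

theorem psToHP_sec (G : Sheaf (J.over X) AddCommGrpCat.{u}) (U : Over Y)
    (s : G.obj.obj (op ((Over.pullback f).obj U))) :
    (psToHP J f G 0).app (op U) ((secNat ((ps J f).obj G)).hom.app (op U) s) =
      (secNat G).hom.app (op ((Over.pullback f).obj U)) s := by
  rw [psToHP_app]
  let c := ((Over.mapPullbackAdj f).counit.app U).op
  refine (congrArg (fun z => (HPmap ((psCounit J f G)) 0).app (op ((Over.pullback f).obj U))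
    ((rsHom J f ((ps J f).obj G) 0).app (op ((Over.pullback f).obj U)) z))
    (NatTrans.naturality_apply (secNat ((ps J f).obj G)).hom c s).symm).trans ?_
  refine (congrArg ((HPmap ((psCounit J f G)) 0).app (op ((Over.pullback f).obj U)))
    (rsHom_sec J f ((ps J f).obj G) ((Over.pullback f).obj U) _)).trans ?_
  refine (ConcreteCategory.congr_hom (congr_app (HPmap_sec ((psCounit J f G))) _) _).trans ?_
  refine congrArg ((secNat G).hom.app (op ((Over.pullback f).obj U))) ?_
  exact ConcreteCategory.congr_hom ((G.obj.map_comp _ _).symm.trans ((congrArg G.obj.map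
    (congrArg Quiver.Hom.op ((Over.mapPullbackAdj f).right_triangle_components U))).trans (G.obj.map_id _))) s

theorem psToHP_δ {S : ShortComplex (Sheaf (J.over X) AddCommGrpCat.{u})} (hS : S.ShortExact)
    {T : ShortComplex (Sheaf (J.over Y) AddCommGrpCat.{u})} (hT : T.ShortExact)
    (χ : T.map (rs J f) ⟶ S) (n : ℕ) (U : Over Y) (x : HC T.X₃ n U) :
    (HPmap χ.τ₁ (n + 1)).app (op ((Over.pullback f).obj U))
      ((rsHom J f T.X₁ (n + 1)).app (op ((Over.pullback f).obj U))
        ((HP T.X₁ (n + 1)).map ((Over.mapPullbackAdj f).counit.app U).op ((HPδ hT n).app (op U) x))) =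
    (HPδ hS n).app (op ((Over.pullback f).obj U))
      ((HPmap χ.τ₃ n).app (op ((Over.pullback f).obj U))
        ((rsHom J f T.X₃ n).app (op ((Over.pullback f).obj U))
          ((HP T.X₃ n).map ((Over.mapPullbackAdj f).counit.app U).op x))) := by
  refine (congrArg (fun z => (HPmap χ.τ₁ (n + 1)).app (op ((Over.pullback f).obj U))
    ((rsHom J f T.X₁ (n + 1)).app (op ((Over.pullback f).obj U)) z))
    (NatTrans.naturality_apply (HPδ hT n) ((Over.mapPullbackAdj f).counit.app U).op x).symm).trans ?_
  refine (congrArg ((HPmap χ.τ₁ (n + 1)).app (op ((Over.pullback f).obj U)))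
    (rsHom_δ J f hT n ((Over.pullback f).obj U) _)).trans ?_
  let y : Ext.{u} (freeAb (J.over X) ((Over.pullback f).obj U)) (T.map (rs J f)).X₃ n :=
    (rsHom J f T.X₃ n).app (op ((Over.pullback f).obj U))
      ((HP T.X₃ n).map ((Over.mapPullbackAdj f).counit.app U).op x)
  show (y.comp (hT.map_of_exact (rs J f)).extClass rfl).comp (Ext.mk₀ χ.τ₁) (add_zero (n + 1)) =
    (y.comp (Ext.mk₀ χ.τ₃) (add_zero n)).comp hS.extClass rfl
  rw [Ext.comp_assoc _ _ _ rfl (add_zero 1) (by omega),
    ShortComplex.ShortExact.extClass_naturality (hT.map_of_exact (rs J f)) hS χ, ← Ext.comp_assoc _ _ _ (add_zero n) (zero_add 1) (by omega)]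

/-- Classes of a sheaf pushed into the direct image of its restriction. -/
theorem psToHP_unit (F : Sheaf (J.over Y) AddCommGrpCat.{u}) (n : ℕ) (U : Over Y) (x : HC F n U) :
    (psToHP J f ((rs J f).obj F) n).app (op U) ((HPmap (psUnit J f F) n).app (op U) x) =
      (rsHom J f F n).app (op ((Over.pullback f).obj U))
        ((HP F n).map ((Over.mapPullbackAdj f).counit.app U).op x) := by
  exact transposeCounit_unit f (rsHom J f ((ps J f).obj ((rs J f).obj F)) n) (rsHom J f F n)
    (HPmap (psUnit J f F) n) (HPmap ((rs J f).map (psUnit J f F)) n) (HPmap (psCounit J f ((rs J f).obj F)) n)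
    (fun V z => rsHom_map J f (psUnit J f F) n V z)
    (fun V z => HPmap_comp_app ((rs J f).map (psUnit J f F)) (psCounit J f ((rs J f).obj F)) (psUnit_psCounit J f F) n V z)
    U x

end Pullback

section RightDerived

variable {D E : Type u} [SmallCategory D] [SmallCategory E] {T : GrothendieckTopology D}
  {T' : GrothendieckTopology E} (w : E ⥤ D) (G : Sheaf T AddCommGrpCat.{u} ⥤ Sheaf T' AddCommGrpCat.{u})
  [G.Additive] (e : G ⋙ sheafToPresheaf T' AddCommGrpCat.{u} ≅
    sheafToPresheaf T AddCommGrpCat.{u} ⋙ (Functor.whiskeringLeft _ _ AddCommGrpCat.{u}).obj w.op)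

include e in
/-- Derived functors of a functor given on presheaves by composition are sheafified cohomology presheaves. -/
theorem nonempty_rightDerived_iso (F : Sheaf T AddCommGrpCat.{u}) (n : ℕ) :
    Nonempty ((G.rightDerived n).obj F ≅ (presheafToSheaf T' AddCommGrpCat.{u}).obj (w.op ⋙ HP F n)) :=
  let R := injectiveResolution F
  let p : G ≅ sheafToPresheaf T AddCommGrpCat.{u} ⋙ resSheafify T' w :=
    (Functor.rightUnitor _).symm ≪≫
      Functor.isoWhiskerLeft _ (asIso (sheafificationAdjunction T' AddCommGrpCat.{u}).counit).symm ≪≫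
      (Functor.associator _ _ _).symm ≪≫ Functor.isoWhiskerRight e _ ≪≫ Functor.associator _ _ _
  ⟨R.isoRightDerivedObj G n ≪≫
    (HomologicalComplex.homologyFunctor _ _ n).mapIso
      ((NatIso.mapHomologicalComplex p (ComplexShape.up ℕ)).app R.cocomplex) ≪≫
    ((presheafCx R).sc n).mapHomologyIso (resSheafify T' w) ≪≫
    (resSheafify T' w).mapIso (homologyPresheafIso R n)⟩

end RightDerived

end Groth.Agent.SiteCmpLib
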