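import Groth.Agent.SiteCmpLib.TopCmp
import Groth.Agent.SiteCmpLib.SliceRs
import Groth.Prelude.Def_WeakSerre

/-!
# Comparing two topologies along a class of arrows with base changes
-/

set_option autoImplicit false
set_option linter.style.haveILetI false

universe u

open CategoryTheory CategoryTheory.Limits CategoryTheory.Abelian Opposite Groth.Agent.SiteBase

noncomputable section

attribute [local instance 10000] Groth.Agent.SiteCmpLib.hasSheafify_ab Groth.Agent.SiteCmpLib.hasExt_ab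

namespace Groth.Agent.SiteCmpLib

variable {C : Type u} [SmallCategory C] {J J' : GrothendieckTopology C}

/-- The standing hypotheses for the comparison. -/
structure CmpSit (h : J' ≤ J) (P : MorphismProperty C)
    (A' : ∀ X : C, ObjectProperty (Sheaf (J'.over X) AddCommGrpCat.{u})) : Prop where
  base : ∀ ⦃X Y : C⦄ (f : X ⟶ Y), P f → ∀ ⦃Y' : C⦄ (g : Y' ⟶ Y),
      ∃ (W : C) (p : W ⟶ Y') (q : W ⟶ X), IsPullback p q g f ∧ P p
  restr : ∀ ⦃X Y : C⦄ (f : X ⟶ Y) (F' : Sheaf (J'.over Y) AddCommGrpCat.{u}), A' Y F' →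
      A' X ((rs J' f).obj F')
  sheaf : ∀ (X : C) (F' : Sheaf (J'.over X) AddCommGrpCat.{u}), A' X F' → Presheaf.IsSheaf (J.over X) F'.obj
  higher : ∀ ⦃X Y : C⦄ (f : X ⟶ Y) [HasPullbacksAlong f], P f → ∀ (F' : Sheaf (J'.over X) AddCommGrpCat.{u}),
      A' X F' → ∀ i : ℕ,
        A' Y ((presheafToSheaf (J'.over Y) AddCommGrpCat.{u}).obj ((Over.pullback f).op ⋙ HP F' i))
  cover : ∀ (U : C) (S : Sieve U), S ∈ J U → ∃ (ι : Type u) (V : ι → C) (v : ∀ j, V j ⟶ U),
      Sieve.ofArrows V v ∈ J' U ∧ ∀ j, ∃ (W : C) (w : W ⟶ V j), P w ∧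
        Sieve.ofArrows (fun _ : PUnit.{u + 1} => W) (fun _ => w) ∈ J (V j) ∧
        ∃ (κ : Type u) (Wk : κ → C) (wk : ∀ k, Wk k ⟶ W), Sieve.ofArrows Wk wk ∈ J' W ∧
          ∀ k, S.arrows (wk k ≫ w ≫ v j)

variable {h : J' ≤ J} {P : MorphismProperty C}
  {A' : ∀ X : C, ObjectProperty (Sheaf (J'.over X) AddCommGrpCat.{u})} [∀ X : C, WSerre.IsWeakSerre (A' X)]

theorem cmpSit_of
    (h1 : ∀ ⦃X Y : C⦄ (f : X ⟶ Y), P f → ∀ ⦃Y' : C⦄ (g : Y' ⟶ Y),
      ∃ (W : C) (p : W ⟶ Y') (q : W ⟶ X), IsPullback p q g f ∧ P p)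
    (h2 : ∀ ⦃X Y : C⦄ (f : X ⟶ Y) (F' : Sheaf (J'.over Y) AddCommGrpCat.{u}), A' Y F' →
      A' X ((CohSite.push (J'.over Y) (J'.over X) (Over.map f)).obj F'))
    (h3 : ∀ (X : C) (F' : Sheaf (J'.over X) AddCommGrpCat.{u}), A' X F' → Presheaf.IsSheaf (J.over X) F'.obj)
    (h4 : ∀ ⦃X Y : C⦄ (f : X ⟶ Y)
      [((Over.map f).sheafPushforwardCocontinuous AddCommGrpCat.{u} (J'.over X) (J'.over Y)).Additive],
      P f → ∀ (F' : Sheaf (J'.over X) AddCommGrpCat.{u}), A' X F' → ∀ i : ℕ,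
        A' Y ((((Over.map f).sheafPushforwardCocontinuous AddCommGrpCat.{u} (J'.over X) (J'.over Y)).rightDerived i).obj F'))
    (h5 : ∀ (U : C) (S : Sieve U), S ∈ J U → ∃ (ι : Type u) (V : ι → C) (v : ∀ j, V j ⟶ U),
      Sieve.ofArrows V v ∈ J' U ∧ ∀ j, ∃ (W : C) (w : W ⟶ V j), P w ∧
        Sieve.ofArrows (fun _ : PUnit.{u + 1} => W) (fun _ => w) ∈ J (V j) ∧
        ∃ (κ : Type u) (Wk : κ → C) (wk : ∀ k, Wk k ⟶ W), Sieve.ofArrows Wk wk ∈ J' W ∧
          ∀ k, S.arrows (wk k ≫ w ≫ v j)) : CmpSit h P A' := by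
  refine ⟨h1, h2, h3, fun X Y f _ hf F' hF' i => ?_, h5⟩
  haveI : ((Over.map f).sheafPushforwardCocontinuous AddCommGrpCat.{u} (J'.over X) (J'.over Y)).Additive :=
    ((Over.map f).sheafAdjunctionCocontinuous AddCommGrpCat.{u} (J'.over X) (J'.over Y)).right_adjoint_additive
  obtain ⟨e⟩ := nonempty_rightDerived_iso (Over.pullback f)
    ((Over.map f).sheafPushforwardCocontinuous AddCommGrpCat.{u} (J'.over X) (J'.over Y)) (cocontPreIso J' f) F' i
  exact (A' Y).prop_of_iso e (h4 f hf F' hF' i)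

/-- Comparison for the localised sites. -/
abbrev epsX (h : J' ≤ J) (X : C) : Sheaf (J.over X) AddCommGrpCat.{u} ⥤ Sheaf (J'.over X) AddCommGrpCat.{u} :=
  epsAb (SiteCmp.over_le h X)

theorem CmpSit.hasPullbacksAlong (H : CmpSit h P A') {X Y : C} {f : X ⟶ Y} (hf : P f) : HasPullbacksAlong f :=
  fun g => let ⟨_, _, _, hW, _⟩ := H.base f hf g; hW.hasPullback

/-- A sheaf in the class, as a sheaf for the finer topology. -/
def CmpSit.liftJ (H : CmpSit h P A') {X : C} (F' : Sheaf (J'.over X) AddCommGrpCat.{u}) (hF' : A' X F') :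
    Sheaf (J.over X) AddCommGrpCat.{u} :=
  ⟨F'.obj, H.sheaf X F' hF'⟩

/-- Lifting does not change the sheaf. -/
def CmpSit.epsLiftIso (H : CmpSit h P A') {X : C} (F' : Sheaf (J'.over X) AddCommGrpCat.{u}) (hF' : A' X F') :
    (epsX h X).obj (H.liftJ F' hF') ≅ F' :=
  (fullyFaithfulSheafToPresheaf _ _).preimageIso (epsObjIso (SiteCmp.over_le h X) (H.liftJ F' hF'))

theorem CmpSit.inA_liftJ (H : CmpSit h P A') {X : C} (F' : Sheaf (J'.over X) AddCommGrpCat.{u}) (hF' : A' X F') :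
    A' X ((epsX h X).obj (H.liftJ F' hF')) :=
  (A' X).prop_of_iso (H.epsLiftIso F' hF').symm hF'

theorem CmpSit.inA_rs (H : CmpSit h P A') {X Y : C} (f : X ⟶ Y) {F : Sheaf (J.over Y) AddCommGrpCat.{u}}
    (hF : A' Y ((epsX h Y).obj F)) : A' X ((epsX h X).obj ((rs J f).obj F)) :=
  (A' X).prop_of_iso ((fullyFaithfulSheafToPresheaf _ _).preimageIso
    (NatIso.ofComponents (fun _ => Iso.refl _) fun _ => (Category.comp_id _).trans (Category.id_comp _).symm))
    (H.restr f _ hF)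

theorem CmpSit.inA_ps (H : CmpSit h P A') {X Y : C} {f : X ⟶ Y} [HasPullbacksAlong f] (hf : P f)
    {G : Sheaf (J.over X) AddCommGrpCat.{u}} (hG : A' X ((epsX h X).obj G)) :
    A' Y ((epsX h Y).obj ((ps J f).obj G)) := by
  let E := (epsX h Y).obj ((ps J f).obj G)
  let e : (Over.pullback f).op ⋙ HP ((epsX h X).obj G) 0 ≅ E.obj :=
    Functor.isoWhiskerLeft _ (secNat _).symm ≪≫
      NatIso.ofComponents (fun _ => Iso.refl _) fun _ => (Category.comp_id _).trans (Category.id_comp _).symm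
  exact (A' Y).prop_of_iso ((presheafToSheaf (J'.over Y) AddCommGrpCat.{u}).mapIso e ≪≫
    asIso ((sheafificationAdjunction (J'.over Y) AddCommGrpCat.{u}).counit.app E)) (H.higher f hf _ hG 0)

/-- Classes in a fixed degree of the sheaves in the class are locally zero. -/
def Vanish (h : J' ≤ J) (A' : ∀ X : C, ObjectProperty (Sheaf (J'.over X) AddCommGrpCat.{u})) (n : ℕ) : Prop :=
  ∀ (X : C) (F : Sheaf (J.over X) AddCommGrpCat.{u}), A' X ((epsX h X).obj F) → AllLocZero (J'.over X) (HP F n)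

theorem CmpSit.nonempty_iso (H : CmpSit h P A') {n : ℕ} (hV : ∀ i, 1 ≤ i → i ≤ n → Vanish h A' i) {X : C}
    {F : Sheaf (J.over X) AddCommGrpCat.{u}} (hF : A' X ((epsX h X).obj F)) {i : ℕ} (hi : i ≤ n) :
    Nonempty (HP ((epsX h X).obj F) i ≅ HP F i) :=
  (cmp (SiteCmp.over_le h X) n F fun j h1 h2 => hV j h1 h2 X F hF).1 i hi

theorem CmpSit.good (H : CmpSit h P A') {n : ℕ} (hV : ∀ i, 1 ≤ i → i ≤ n → Vanish h A' i) {X Y : C} {f : X ⟶ Y}
    [HasPullbacksAlong f] (hf : P f) {G : Sheaf (J.over X) AddCommGrpCat.{u}} (hG : A' X ((epsX h X).obj G))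
    {q : ℕ} (hq : q ≤ n) :
    A' Y ((presheafToSheaf (J'.over Y) AddCommGrpCat.{u}).obj ((Over.pullback f).op ⋙ HP G q)) := by
  obtain ⟨e⟩ := H.nonempty_iso hV hG hq
  exact (A' Y).prop_of_iso ((presheafToSheaf (J'.over Y) AddCommGrpCat.{u}).mapIso
    (Functor.isoWhiskerLeft (Over.pullback f).op e)) (H.higher f hf _ hG q)

theorem epi_of_imageSieve {X : C} {F G : Sheaf (J.over X) AddCommGrpCat.{u}} (φ : F ⟶ G) (hle : J' ≤ J)
    (hφ : ∀ (U : Over X) (s : G.obj.obj (op U)), Presheaf.imageSieve φ.hom s ∈ (J'.over X) U) : Epi φ := by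
  haveI : Sheaf.IsLocallySurjective φ := ⟨fun {U} s => SiteCmp.over_le hle X U (hφ U s)⟩
  exact Sheaf.epi_of_isLocallySurjective _

theorem imageSieve_mem_of_epi_eps {X : C} {F G : Sheaf (J.over X) AddCommGrpCat.{u}} (φ : F ⟶ G)
    [Epi ((epsX h X).map φ)] (U : Over X) (s : G.obj.obj (op U)) :
    Presheaf.imageSieve φ.hom s ∈ (J'.over X) U := by
  haveI : Presheaf.IsLocallySurjective (J'.over X) ((epsX h X).map φ).hom :=
    (Sheaf.isLocallySurjective_iff_epi' AddCommGrpCat.{u} _).2 inferInstance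
  exact Presheaf.imageSieve_mem (J'.over X) ((epsX h X).map φ).hom (U := op U) s

/-- A class in the image of a coboundary from a degree with local vanishing is locally zero. -/
theorem locZero_δ {X : C} {S : ShortComplex (Sheaf (J.over X) AddCommGrpCat.{u})} (hS : S.ShortExact) (j : ℕ)
    (h0 : ∀ (U : Over X) (s : S.X₃.obj.obj (op U)), Presheaf.imageSieve S.g.hom s ∈ (J'.over X) U)
    (h1 : 1 ≤ j → AllLocZero (J'.over X) (HP S.X₃ j)) (U : Over X) (c : HC S.X₃ j U) :
    LocZero (J'.over X) (HP S.X₁ (j + 1)) U ((HPδ hS j).app (op U) c) := by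
  rcases j with _ | j
  · obtain ⟨s, rfl⟩ := (ConcreteCategory.bijective_of_isIso ((secNat S.X₃).hom.app (op U))).2 c
    exact (secδNat_locZero_iff hS U s).2 (h0 U s)
  · exact (h1 (by omega) U c).map (HPδ hS (j + 1))

theorem CmpSit.exists_cokernel (H : CmpSit h P A') {X : C} {F G : Sheaf (J.over X) AddCommGrpCat.{u}} (φ : F ⟶ G)
    (hF : A' X ((epsX h X).obj F)) (hG : A' X ((epsX h X).obj G)) :
    A' X ((epsX h X).obj (cokernel φ)) ∧ Epi ((epsX h X).map (cokernel.π φ)) := by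
  have hQ : A' X (cokernel ((epsX h X).map φ)) := (A' X).prop_cokernel _ hF hG
  let Q := H.liftJ _ hQ
  let π : G ⟶ Q := (epsX h X).preimage (cokernel.π ((epsX h X).map φ) ≫ (H.epsLiftIso _ hQ).inv)
  have hπ : (epsX h X).map π = cokernel.π ((epsX h X).map φ) ≫ (H.epsLiftIso _ hQ).inv :=
    (epsX h X).map_preimage _
  have w : φ ≫ π = 0 := (epsX h X).map_injective (by
    rw [Functor.map_comp, hπ, cokernel.condition_assoc, zero_comp, Functor.map_zero])
  let hc : IsColimit (CokernelCofork.ofπ π w) := CokernelCofork.IsColimit.ofπ _ _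
    (fun {T} g hg => (epsX h X).preimage ((H.epsLiftIso _ hQ).hom ≫ cokernel.desc _ ((epsX h X).map g)
      (by rw [← Functor.map_comp, hg, Functor.map_zero])))
    (fun {T} g hg => (epsX h X).map_injective (by
      rw [Functor.map_comp, hπ, Functor.map_preimage, Category.assoc, Iso.inv_hom_id_assoc, cokernel.π_desc]))
    (fun {T} g hg m hm => (epsX h X).map_injective (by
      rw [Functor.map_preimage, ← cancel_epi (H.epsLiftIso _ hQ).inv, Iso.inv_hom_id_assoc,
        ← cancel_epi (cokernel.π ((epsX h X).map φ)), cokernel.π_desc, ← Category.assoc, ← hπ,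
        ← Functor.map_comp, hm]))
  let e : Q ≅ cokernel φ := IsColimit.coconePointUniqueUpToIso hc (colimit.isColimit (parallelPair φ 0))
  have he : π ≫ e.hom = cokernel.π φ :=
    IsColimit.comp_coconePointUniqueUpToIso_hom hc (colimit.isColimit (parallelPair φ 0)) WalkingParallelPair.one
  refine ⟨(A' X).prop_of_iso ((epsX h X).mapIso e) (H.inA_liftJ _ hQ), ?_⟩
  rw [← he, Functor.map_comp, hπ]
  infer_instance

theorem psToHP_comp {X Y : C} (f : X ⟶ Y) [HasPullbacksAlong f] {K : Sheaf (J.over Y) AddCommGrpCat.{u}}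
    {G : Sheaf (J.over X) AddCommGrpCat.{u}} (k : K ⟶ (ps J f).obj G) (n : ℕ) (U : Over Y)
    (b : HC K n U) :
    (psToHP J f G n).app (op U) ((HPmap k n).app (op U) b) =
      (HPmap ((rs J f).map k ≫ (rsPsAdj J f).counit.app G) n).app (op ((Over.pullback f).obj U))
        ((rsHom J f K n).app (op ((Over.pullback f).obj U))
          ((HP K n).map ((Over.mapPullbackAdj f).counit.app U).op b)) := by
  rw [psToHP_app]
  refine (congrArg (fun z => (HPmap ((rsPsAdj J f).counit.app G) n).app (op ((Over.pullback f).obj U))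
    ((rsHom J f ((ps J f).obj G) n).app (op ((Over.pullback f).obj U)) z))
    (NatTrans.naturality_apply (HPmap k n) ((Over.mapPullbackAdj f).counit.app U).op b).symm).trans ?_
  refine (congrArg ((HPmap ((rsPsAdj J f).counit.app G) n).app (op ((Over.pullback f).obj U)))
    (rsHom_map J f k n ((Over.pullback f).obj U) _)).trans ?_
  exact (ConcreteCategory.congr_hom (congr_app ((Sheaf.cohomologyPresheafFunctor (J.over X) n).map_comp
    ((rs J f).map k) ((rsPsAdj J f).counit.app G)) (op ((Over.pullback f).obj U))) _).symm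

/-- The direct image of a presentation, as far as it is exact. -/
abbrev psSeq {X Y : C} (f : X ⟶ Y) [HasPullbacksAlong f] (S : ShortComplex (Sheaf (J.over X) AddCommGrpCat.{u})) :
    ShortComplex (Sheaf (J.over Y) AddCommGrpCat.{u}) :=
  ShortComplex.mk ((ps J f).map S.f) (cokernel.π ((ps J f).map S.f)) (cokernel.condition _)

/-- The comparison of the last terms. -/
abbrev psSeqK {X Y : C} (f : X ⟶ Y) [HasPullbacksAlong f] (S : ShortComplex (Sheaf (J.over X) AddCommGrpCat.{u})) :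
    (psSeq f S).X₃ ⟶ (ps J f).obj S.X₃ :=
  cokernel.desc _ ((ps J f).map S.g) (by rw [← Functor.map_comp, S.zero, Functor.map_zero])

theorem psSeq_shortExact {X Y : C} (f : X ⟶ Y) [HasPullbacksAlong f]
    {S : ShortComplex (Sheaf (J.over X) AddCommGrpCat.{u})} (hS : S.ShortExact) : (psSeq f S).ShortExact :=
  haveI := hS.mono_f
  ShortComplex.ShortExact.mk' (ShortComplex.exact_of_g_is_cokernel _ (cokernelIsCokernel _))
    ((ps J f).map_mono S.f) inferInstance

theorem mono_psSeqK {X Y : C} (f : X ⟶ Y) [HasPullbacksAlong f]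
    {S : ShortComplex (Sheaf (J.over X) AddCommGrpCat.{u})} (hS : S.ShortExact) : Mono (psSeqK f S) :=
  (ShortComplex.exact_iff_mono_cokernel_desc (S.map (ps J f))).1
    (hS.exact.map_of_mono_of_preservesKernel (ps J f) hS.mono_f inferInstance)

theorem psSeq_g_comp {X Y : C} (f : X ⟶ Y) [HasPullbacksAlong f]
    (S : ShortComplex (Sheaf (J.over X) AddCommGrpCat.{u})) :
    cokernel.π ((ps J f).map S.f) ≫ psSeqK f S = (ps J f).map S.g :=
  cokernel.π_desc _ _ _

theorem psToHP_psSeq_δ {X Y : C} (f : X ⟶ Y) [HasPullbacksAlong f]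
    {S : ShortComplex (Sheaf (J.over X) AddCommGrpCat.{u})} (hS : S.ShortExact) (n : ℕ) (U : Over Y)
    (b : HC (psSeq f S).X₃ n U) :
    (psToHP J f S.X₁ (n + 1)).app (op U) ((HPδ (psSeq_shortExact f hS) n).app (op U) b) =
      (HPδ hS n).app (op ((Over.pullback f).obj U))
        ((psToHP J f S.X₃ n).app (op U) ((HPmap (psSeqK f S) n).app (op U) b)) := by
  let χ : (psSeq f S).map (rs J f) ⟶ S := ShortComplex.homMk ((rsPsAdj J f).counit.app S.X₁)
    ((rsPsAdj J f).counit.app S.X₂) ((rs J f).map (psSeqK f S) ≫ (rsPsAdj J f).counit.app S.X₃)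
    ((rsPsAdj J f).counit.naturality S.f).symm (by
      show (rsPsAdj J f).counit.app S.X₂ ≫ S.g = (rs J f).map _ ≫ (rs J f).map (psSeqK f S) ≫ _
      rw [← Functor.map_comp_assoc, psSeq_g_comp]
      exact ((rsPsAdj J f).counit.naturality S.g).symm)
  rw [psToHP_comp, psToHP_app]
  exact psToHP_δ J f hS (psSeq_shortExact f hS) χ n U b

theorem CmpSit.exists_psSeq_ext (H : CmpSit h P A') {X Y : C} (f : X ⟶ Y) [HasPullbacksAlong f]
    {S : ShortComplex (Sheaf (J.over X) AddCommGrpCat.{u})} (hS : S.ShortExact) [Injective S.X₂]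
    (hR : A' Y ((presheafToSheaf (J'.over Y) AddCommGrpCat.{u}).obj ((Over.pullback f).op ⋙ HP S.X₁ 1))) :
    ∃ (π₁ : (ps J f).obj S.X₃ ⟶ H.liftJ _ hR) (w : psSeqK f S ≫ π₁ = 0),
      (ShortComplex.mk (psSeqK f S) π₁ w).ShortExact ∧
      ∀ (V : Over Y) (s : (H.liftJ _ hR).obj.obj (op V)), Presheaf.imageSieve π₁.hom s ∈ (J'.over Y) V := by
  haveI := hS.mono_f
  haveI := mono_psSeqK f hS
  let R := H.liftJ _ hR
  let pR : (Over.pullback f).op ⋙ S.X₃.obj ⟶ R.obj :=
    Functor.whiskerLeft (Over.pullback f).op (secδNat hS) ≫ toSheafify (J'.over Y) _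
  let π₁ : (ps J f).obj S.X₃ ⟶ R := ⟨pR⟩
  have hπ₁ : ∀ (V : Over Y) (s : R.obj.obj (op V)), Presheaf.imageSieve π₁.hom s ∈ (J'.over Y) V :=
    fun V s => by
      refine (J'.over Y).superset_covering ?_ (Presheaf.imageSieve_mem (J'.over Y)
        (toSheafify (J'.over Y) ((Over.pullback f).op ⋙ HP S.X₁ 1)) (U := op V) s)
      rintro W g ⟨t, ht⟩
      obtain ⟨t', rfl⟩ := secδNat_surjective hS ((Over.pullback f).obj W) t
      exact ⟨t', ht⟩
  have hkπ : psSeqK f S ≫ π₁ = 0 := by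
    rw [← cancel_epi (cokernel.π ((ps J f).map S.f)), ← Category.assoc, psSeq_g_comp, comp_zero]
    ext V t
    show (toSheafify (J'.over Y) ((Over.pullback f).op ⋙ HP S.X₁ 1)).app V
      ((secδNat hS).app (op ((Over.pullback f).obj V.unop))
      (S.g.hom.app (op ((Over.pullback f).obj V.unop)) t)) = 0
    rw [(secδNat_eq_zero_iff hS ((Over.pullback f).obj V.unop) _).2 ⟨t, rfl⟩, map_zero]
  refine ⟨π₁, hkπ, ShortComplex.ShortExact.mk' ((ShortComplex.exact_iff_epi_kernel_lift _).2 ?_) ‹_›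
    (epi_of_imageSieve π₁ h hπ₁), hπ₁⟩
  let q := cokernel.π ((ps J f).map S.f) ≫ kernel.lift π₁ (psSeqK f S) hkπ
  have hq : q ≫ kernel.ι π₁ = (ps J f).map S.g := by
    rw [Category.assoc, kernel.lift_ι, psSeq_g_comp]
  haveI : Epi q := epi_of_imageSieve q h fun V y => by
    have hy : π₁.hom.app (op V) ((kernel.ι π₁).hom.app (op V) y) = 0 :=
      ConcreteCategory.congr_hom (congrArg (fun a => a.hom.app (op V)) (kernel.condition π₁)) y
    obtain ⟨Sg, hSg, hs⟩ := (toSheafify_eq_zero_iff _).1 hy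
    refine (J'.over Y).superset_covering (fun W g hg => ?_) hSg
    obtain ⟨t, ht⟩ := (secδNat_eq_zero_iff hS ((Over.pullback f).obj W) _).1
      ((NatTrans.naturality_apply (secδNat hS) ((Over.pullback f).map g).op _).trans (hs g hg))
    refine ⟨t, mono_app_injective (kernel.ι π₁) (op W) ?_⟩
    refine (ConcreteCategory.congr_hom (congrArg (fun a => a.hom.app (op W)) hq) t).trans ?_
    exact ht.trans (NatTrans.naturality_apply (kernel.ι π₁).hom g.op y).symm
  exact epi_of_epi (cokernel.π ((ps J f).map S.f)) _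

/-- The kernel of the map from classes of a direct image to classes on the base change. -/
theorem CmpSit.ker_psToHP (H : CmpSit h P A') {X Y : C} (f : X ⟶ Y) [HasPullbacksAlong f] :
    ∀ (m : ℕ), (∀ i, 1 ≤ i → i < m → Vanish h A' i) → ∀ (G : Sheaf (J.over X) AddCommGrpCat.{u}),
      (∀ q, 1 ≤ q → q ≤ m →
        A' Y ((presheafToSheaf (J'.over Y) AddCommGrpCat.{u}).obj ((Over.pullback f).op ⋙ HP G q))) →
      ∀ (U : Over Y) (x : HC ((ps J f).obj G) (m + 1) U),
        (psToHP J f G (m + 1)).app (op U) x = 0 →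
          LocZero (J'.over Y) (HP ((ps J f).obj G) (m + 1)) U x := by
  intro m
  induction m with
  | zero =>
    intro _ G _ U x hx
    obtain ⟨S, hS, rfl, hI⟩ := exists_injective_presentation G
    haveI := hI
    haveI : Injective (psSeq f S).X₂ := injective_ps J f S.X₂
    obtain ⟨s, rfl⟩ := secδNat_surjective (psSeq_shortExact f hS) U x
    replace hx := (psToHP_psSeq_δ f hS 0 U ((secNat (psSeq f S).X₃).hom.app (op U) s)).symm.trans hx
    have e := ConcreteCategory.congr_hom (congr_app (HPmap_sec (psSeqK f S)) (op U)) s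
    replace hx := (congrArg ((HPδ hS 0).app (op ((Over.pullback f).obj U)))
      ((congrArg ((psToHP J f S.X₃ 0).app (op U)) e).trans
        (psToHP_sec J f S.X₃ U ((psSeqK f S).hom.app (op U) s))).symm).trans hx
    obtain ⟨t, ht⟩ := (secδNat_eq_zero_iff hS ((Over.pullback f).obj U) ((psSeqK f S).hom.app (op U) s)).1 hx
    haveI := mono_psSeqK f hS
    have hst : (psSeq f S).g.hom.app (op U) t = s := mono_app_injective (psSeqK f S) (op U)
      ((ConcreteCategory.congr_hom (congrArg (fun a => a.hom.app (op U)) (psSeq_g_comp f S)) t).trans ht)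
    rw [(secδNat_eq_zero_iff (psSeq_shortExact f hS) U s).2 ⟨t, hst⟩]
    exact locZero_zero
  | succ j ih =>
    intro hV G hG U x hx
    obtain ⟨S, hS, rfl, hI⟩ := exists_injective_presentation G
    haveI := hI
    haveI : Injective (psSeq f S).X₂ := injective_ps J f S.X₂
    obtain ⟨b, rfl⟩ := HP_exact₁ (psSeq_shortExact f hS) (j + 1) U x
      ((subsingleton_HC U (psSeq f S).X₂ (j + 1)).elim _ _)
    replace hx := (psToHP_psSeq_δ f hS (j + 1) U b).symm.trans hx
    replace hx := (bijective_HPδ hS j _).1 (hx.trans (map_zero _).symm)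
    have hlz := ih (fun i h1 h2 => hV i h1 (by omega)) S.X₃ (fun q h1 h2 => by
      obtain ⟨q', rfl⟩ : ∃ q', q = q' + 1 := ⟨q - 1, by omega⟩
      exact (A' Y).prop_of_iso ((presheafToSheaf (J'.over Y) AddCommGrpCat.{u}).mapIso
        (Functor.isoWhiskerLeft (Over.pullback f).op (shiftIso hS q').symm)) (hG (q' + 1 + 1) (by omega) (by omega)))
      U _ hx
    obtain ⟨π₁, w, hT₂, hπ₁⟩ := H.exists_psSeq_ext f hS (hG 1 le_rfl (by omega))
    refine (show LocZero (J'.over Y) (HP (psSeq f S).X₃ (j + 1)) U b from ?_).map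
      (HPδ (psSeq_shortExact f hS) (j + 1))
    obtain ⟨Sg, hSg, hs⟩ := hlz
    refine locZero_of_cover Sg hSg fun W g hg => ?_
    obtain ⟨c, hc⟩ := HP_exact₁ hT₂ j W ((HP (psSeq f S).X₃ (j + 1)).map g.op b)
      ((NatTrans.naturality_apply (HPmap (psSeqK f S) (j + 1)) g.op b).trans (hs g hg))
    rw [← hc]
    exact locZero_δ hT₂ j hπ₁ (fun h1 => hV j h1 (by omega) Y _ (H.inA_liftJ _ (hG 1 le_rfl (by omega)))) W c

theorem CmpSit.counit_cover {X Y : C} (f : X ⟶ Y) [HasPullbacksAlong f]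
    (hcov : Sieve.ofArrows (fun _ : PUnit.{u + 1} => X) (fun _ => f) ∈ J Y) (U : Over Y) :
    Sieve.ofArrows (fun _ : PUnit.{u + 1} => (Over.map f).obj ((Over.pullback f).obj U))
      (fun _ => (Over.mapPullbackAdj f).counit.app U) ∈ (J.over Y) U := by
  rw [J.mem_over_iff]
  refine J.superset_covering ?_ (J.pullback_stable U.hom hcov)
  rintro V g hg
  obtain ⟨_, a, ha⟩ := (Sieve.mem_ofArrows_iff _ _ _).1 hg
  rw [Sieve.overEquiv_iff]
  let r : Over.mk (g ≫ U.hom) ⟶ (Over.map f).obj ((Over.pullback f).obj U) :=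
    Over.homMk (pullback.lift g a ha) ((pullback.lift_snd_assoc g a ha f).trans ha.symm)
  refine (Sieve.mem_ofArrows_iff _ _ _).2 ⟨PUnit.unit, r, Over.OverMorphism.ext ?_⟩
  simp [r]
  exact (pullback.lift_fst _ _ _).symm

/-- A class killed by a covering arrow of the class is locally zero for the coarser topology. -/
theorem CmpSit.kill (H : CmpSit h P A') {n : ℕ} (hV : ∀ i, 1 ≤ i → i ≤ n → Vanish h A' i) {X Y : C} (f : X ⟶ Y)
    [HasPullbacksAlong f] (hf : P f) (hcov : Sieve.ofArrows (fun _ : PUnit.{u + 1} => X) (fun _ => f) ∈ J Y)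
    (F : Sheaf (J.over Y) AddCommGrpCat.{u}) (hF : A' Y ((epsX h Y).obj F))
    (x : HC F (n + 1) (Over.mk (𝟙 Y)))
    (hx : (HP F (n + 1)).map (Over.homMk f (Category.comp_id f) : Over.mk f ⟶ Over.mk (𝟙 Y)).op x = 0) :
    LocZero (J'.over Y) (HP F (n + 1)) (Over.mk (𝟙 Y)) x := by
  let G := (rs J f).obj F
  have hG : A' X ((epsX h X).obj G) := H.inA_rs f hF
  let r : F ⟶ (ps J f).obj G := (rsPsAdj J f).unit.app F
  haveI : Mono r := by
    haveI : ∀ U, Mono (r.hom.app U) := fun U => (AddCommGrpCat.mono_iff_injective _).2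
      ((injective_iff_map_eq_zero _).2 fun y hy => eq_zero_of_cover_zero F.property _ _
        (CmpSit.counit_cover f hcov U.unop) fun _ => hy)
    haveI : Mono r.hom := NatTrans.mono_of_mono_app _
    exact (sheafToPresheaf _ _).mono_of_mono_map (inferInstanceAs (Mono r.hom))
  let T : ShortComplex (Sheaf (J.over Y) AddCommGrpCat.{u}) :=
    ShortComplex.mk r (cokernel.π r) (cokernel.condition _)
  have hT : T.ShortExact := ShortComplex.ShortExact.mk'
    (ShortComplex.exact_of_g_is_cokernel _ (cokernelIsCokernel _)) inferInstance inferInstance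
  obtain ⟨hQ, hπ⟩ := H.exists_cokernel r hF (H.inA_ps hf hG)
  have hrx : LocZero (J'.over Y) (HP ((ps J f).obj G) (n + 1)) (Over.mk (𝟙 Y))
      ((HPmap r (n + 1)).app (op (Over.mk (𝟙 Y))) x) := by
    refine H.ker_psToHP f n (fun i h1 h2 => hV i h1 h2.le) G (fun q h1 h2 => H.good hV hf hG h2) _ _ ?_
    refine (psToHP_unit J f F (n + 1) (Over.mk (𝟙 Y)) x).trans ?_
    have e : (Over.mapPullbackAdj f).counit.app (Over.mk (𝟙 Y)) =
        (Over.homMk (pullback.snd (𝟙 Y) f) rfl : (Over.map f).obj ((Over.pullback f).obj (Over.mk (𝟙 Y))) ⟶ Over.mk f) ≫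
          (Over.homMk f (Category.comp_id f) : Over.mk f ⟶ Over.mk (𝟙 Y)) :=
      Over.OverMorphism.ext (by
        simpa using (Over.w ((Over.mapPullbackAdj f).counit.app (Over.mk (𝟙 Y)))))
    rw [e, op_comp, Functor.map_comp, ConcreteCategory.comp_apply, hx, map_zero, map_zero]
  obtain ⟨Sg, hSg, hs⟩ := hrx
  refine locZero_of_cover Sg hSg fun W g hg => ?_
  obtain ⟨c, hc⟩ := HP_exact₁ hT n W ((HP F (n + 1)).map g.op x)
    ((NatTrans.naturality_apply (HPmap r (n + 1)) g.op x).trans (hs g hg))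
  rw [← hc]
  exact locZero_δ hT n (fun V s => imageSieve_mem_of_epi_eps (h := h) (cokernel.π r) V s)
    (fun h1 => hV n h1 le_rfl Y _ hQ) W c

/-- A class with equal restrictions to the self product dies after a covering of the target. -/
theorem CmpSit.exists_cover_killing (H : CmpSit h P A') {X Y : C} (f : X ⟶ Y) (hf : P f)
    (hcov : Sieve.ofArrows (fun _ : PUnit.{u + 1} => X) (fun _ => f) ∈ J Y)
    (F' : Sheaf (J'.over Y) AddCommGrpCat.{u}) (hF' : A' Y F') (n : ℕ)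
    (θ : HC F' (n + 1) (Over.mk f))
    (hθ : ∀ (W : C) (p q : W ⟶ X) (hW : IsPullback p q f f),
      CohSite.res F' (n + 1) (Over.homMk p rfl : Over.mk (p ≫ f) ⟶ Over.mk f) θ =
        CohSite.res F' (n + 1) (Over.homMk q hW.w.symm : Over.mk (p ≫ f) ⟶ Over.mk f) θ) :
    ∃ (ι : Type u) (Z : ι → C) (g : ∀ i, Z i ⟶ Y), Sieve.ofArrows Z g ∈ J' Y ∧
      ∀ (i : ι) (W : C) (p : W ⟶ Z i) (q : W ⟶ X), IsPullback p q (g i) f →
        CohSite.res F' (n + 1) (Over.homMk q rfl : Over.mk (q ≫ f) ⟶ Over.mk f) θ = 0 := by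
  haveI : HasPullbacksAlong f := H.hasPullbacksAlong hf
  let E := Over.pullback f ⋙ Over.map f
  let Q := E.op ⋙ HP F' (n + 1)
  let e : (Over.pullback f).op ⋙ HP ((rs J' f).obj F') (n + 1) ≅ Q :=
    Functor.isoWhiskerLeft (Over.pullback f).op (rsIso J' f F' (n + 1)).symm
  have hQ : A' Y ((presheafToSheaf (J'.over Y) AddCommGrpCat.{u}).obj Q) :=
    (A' Y).prop_of_iso ((presheafToSheaf (J'.over Y) AddCommGrpCat.{u}).mapIso e)
      (H.higher f hf _ (H.restr f F' hF') (n + 1))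
  let e₀ : E.obj (Over.mk (𝟙 Y)) ⟶ Over.mk f := Over.homMk (pullback.snd (𝟙 Y) f) rfl
  let s₀ : Q.obj (op (Over.mk (𝟙 Y))) := (HP F' (n + 1)).map e₀.op θ
  let t : Over.mk f ⟶ Over.mk (𝟙 Y) := Over.homMk f (Category.comp_id f)
  have hcov' : Sieve.ofArrows (fun _ : PUnit.{u + 1} => Over.mk f) (fun _ => t) ∈ (J.over Y) (Over.mk (𝟙 Y)) := by
    rw [J.mem_over_iff]
    refine J.superset_covering ?_ hcov
    rintro V g hg
    obtain ⟨_, a, rfl⟩ := (Sieve.mem_ofArrows_iff _ _ _).1 hg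
    rw [Sieve.overEquiv_iff]
    refine (Sieve.mem_ofArrows_iff _ _ _).2 ⟨PUnit.unit,
      Over.homMk a (by simp), ?_⟩
    ext
    simp [t]
  have h₀ : LocZero (J'.over Y) Q (Over.mk f) (Q.map t.op s₀) := by
    have hfst : Q.map t.op s₀ = (HP F' (n + 1)).map
        (Over.homMk (pullback.fst f f) pullback.condition : E.obj (Over.mk f) ⟶ Over.mk f).op θ := by
      have ht : E.map t ≫ e₀ = (Over.homMk (pullback.snd f f) rfl : E.obj (Over.mk f) ⟶ Over.mk f) := by
        ext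
        simp [E, t, e₀]
        exact pullback.lift_snd _ _ _
      show (HP F' (n + 1)).map (E.map t).op ((HP F' (n + 1)).map e₀.op θ) = _
      rw [← ConcreteCategory.comp_apply, ← Functor.map_comp, ← op_comp, ht]
      exact hθ (pullback f f) (pullback.snd f f) (pullback.fst f f) (IsPullback.of_hasPullback f f).flip
    rw [hfst, locZero_over_iff]
    obtain ⟨S, hS, hθS⟩ := (locZero_over_iff _ _).1 (allLocZero_HP n F' (Over.mk f) θ)
    refine ⟨S, hS, fun V g hg => ?_⟩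
    let c : E.obj (Over.mk (g ≫ f)) ⟶ Over.mk (g ≫ f) := Over.homMk (pullback.fst (g ≫ f) f) pullback.condition
    have hc : E.map (Over.homMk g rfl : Over.mk (g ≫ f) ⟶ Over.mk f) ≫
        (Over.homMk (pullback.fst f f) pullback.condition : E.obj (Over.mk f) ⟶ Over.mk f) =
        c ≫ (Over.homMk g rfl : Over.mk (g ≫ f) ⟶ Over.mk f) := by
      ext
      simp [E, c]
      exact pullback.lift_fst _ _ _
    show (HP F' (n + 1)).map (E.map _).op ((HP F' (n + 1)).map _ θ) = 0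
    rw [← ConcreteCategory.comp_apply, ← Functor.map_comp, ← op_comp]
    erw [hc]
    rw [op_comp, Functor.map_comp, ConcreteCategory.comp_apply]
    erw [hθS g hg]
    rw [map_zero]
  have hs₀ : (toSheafify (J'.over Y) Q).app (op (Over.mk (𝟙 Y))) s₀ = 0 :=
    eq_zero_of_cover_zero (H.sheaf Y _ hQ) _ _ hcov' fun _ =>
      (NatTrans.naturality_apply (toSheafify (J'.over Y) Q) t.op s₀).symm.trans ((toSheafify_eq_zero_iff _).2 h₀)
  obtain ⟨S, hS, hs⟩ := (locZero_over_iff _ _).1 ((toSheafify_eq_zero_iff _).1 hs₀)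
  refine ⟨Σ V : C, {g : V ⟶ Y // S.arrows g}, fun i => i.1, fun i => i.2.1,
    J'.superset_covering (fun V g hg => (Sieve.mem_ofArrows_iff _ _ _).2 ⟨⟨V, g, hg⟩, 𝟙 V, (Category.id_comp g).symm⟩) hS, ?_⟩
  rintro ⟨V, g, hg⟩ W p q hW
  let a : Over.mk (q ≫ f) ⟶ E.obj (Over.mk (g ≫ 𝟙 Y)) :=
    Over.homMk (pullback.lift p q (by simpa using hW.w)) (by
      simp [E]
      exact pullback.lift_snd_assoc _ _ _ _)
  have ha : (Over.homMk q rfl : Over.mk (q ≫ f) ⟶ Over.mk f) =
      a ≫ E.map (Over.homMk g rfl : Over.mk (g ≫ 𝟙 Y) ⟶ Over.mk (𝟙 Y)) ≫ e₀ := by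
    ext
    simp [a, E, e₀]
    exact ((congrArg (_ ≫ ·) (pullback.lift_snd _ _ _)).trans (pullback.lift_snd _ _ _)).symm
  show (HP F' (n + 1)).map _ θ = 0
  rw [ha, op_comp, op_comp, Functor.map_comp, Functor.map_comp, ConcreteCategory.comp_apply,
    ConcreteCategory.comp_apply]
  exact (congrArg _ (hs g hg)).trans (map_zero _)

/-- A class on a localised site, restricted to a further localisation. -/
def restrClass {X Z : C} (v : Z ⟶ X) (F : Sheaf (J.over X) AddCommGrpCat.{u}) (n : ℕ) {U : Over X}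
    (o : (Over.map v).obj (Over.mk (𝟙 Z)) ⟶ U) (x : HC F n U) :
    HC ((rs J v).obj F) n (Over.mk (𝟙 Z)) :=
  (rsHom J v F n).app (op (Over.mk (𝟙 Z))) ((HP F n).map o.op x)

theorem presheaf_map_eq {D : Type u} [SmallCategory D] (Q : Dᵒᵖ ⥤ AddCommGrpCat.{u}) {U₁ U₂ U₂' U₃ : D}
    (a : U₂ ⟶ U₁) (b : U₃ ⟶ U₂) (a' : U₂' ⟶ U₁) (b' : U₃ ⟶ U₂') (e : b ≫ a = b' ≫ a') (x : Q.obj (op U₁)) :
    Q.map b.op (Q.map a.op x) = Q.map b'.op (Q.map a'.op x) := by
  rw [← ConcreteCategory.comp_apply, ← ConcreteCategory.comp_apply, ← Q.map_comp, ← Q.map_comp, ← op_comp,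
    ← op_comp, e]

theorem presheaf_map_comp {D : Type u} [SmallCategory D] (Q : Dᵒᵖ ⥤ AddCommGrpCat.{u}) {U₁ U₂ U₃ : D}
    (a : U₂ ⟶ U₁) (b : U₃ ⟶ U₂) (c : U₃ ⟶ U₁) (e : b ≫ a = c) (x : Q.obj (op U₁)) :
    Q.map b.op (Q.map a.op x) = Q.map c.op x := by
  rw [← ConcreteCategory.comp_apply, ← Q.map_comp, ← op_comp, e]

/-- Local vanishing after restriction to a further localisation. -/
theorem locZero_of_map {X Z : C} {U : Over X} (K : GrothendieckTopology C) (v₀ : Z ⟶ U.left) (v : Z ⟶ X)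
    (hv : v₀ ≫ U.hom = v) (Q : (Over X)ᵒᵖ ⥤ AddCommGrpCat.{u}) (x : Q.obj (op U))
    (o : (Over.map v).obj (Over.mk (𝟙 Z)) ⟶ U) (ho : o.left = v₀)
    (hx : LocZero (K.over X) Q ((Over.map v).obj (Over.mk (𝟙 Z))) (Q.map o.op x)) :
    LocZero (K.over X) Q (Over.mk v) (Q.map (Over.homMk v₀ hv : Over.mk v ⟶ U).op x) := by
  let e : Over.mk v ⟶ (Over.map v).obj (Over.mk (𝟙 Z)) := Over.homMk (𝟙 Z) (by simp)
  have he : e ≫ o = (Over.homMk v₀ hv : Over.mk v ⟶ U) := by ext; simp [e, ho]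
  obtain ⟨S, hS, hs⟩ := hx
  refine ⟨S.pullback e, (K.over X).pullback_stable e hS, fun V a ha => ?_⟩
  rw [presheaf_map_comp Q _ a (a ≫ e ≫ o) (by rw [he]) x,
    ← presheaf_map_comp Q o (a ≫ e) (a ≫ e ≫ o) (Category.assoc _ _ _) x]
  exact hs _ ha

theorem restrClass_map_eq_zero {X Z : C} (v : Z ⟶ X) (F : Sheaf (J.over X) AddCommGrpCat.{u}) (n : ℕ)
    {U : Over X} (o : (Over.map v).obj (Over.mk (𝟙 Z)) ⟶ U) (x : HC F n U) {V : Over Z}
    (m : V ⟶ Over.mk (𝟙 Z)) {T : Over X} (a : T ⟶ U) (c : (Over.map v).obj V ⟶ T)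
    (hc : (Over.map v).map m ≫ o = c ≫ a) (hx : (HP F n).map a.op x = 0) :
    (HP ((rs J v).obj F) n).map m.op (restrClass v F n o x) = 0 := by
  refine (NatTrans.naturality_apply (rsHom J v F n) m.op ((HP F n).map o.op x)).symm.trans ?_
  refine (congrArg ((rsHom J v F n).app (op V)) ?_).trans (map_zero _)
  refine (presheaf_map_eq (HP F n) o ((Over.map v).map m) a c hc x).trans ?_
  rw [hx, map_zero]

theorem locZero_of_restrClass {X Z : C} {U : Over X} (v₀ : Z ⟶ U.left) (v : Z ⟶ X) (hv : v₀ ≫ U.hom = v)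
    (F : Sheaf (J.over X) AddCommGrpCat.{u}) (n : ℕ) (x : HC F n U)
    (o : (Over.map v).obj (Over.mk (𝟙 Z)) ⟶ U) (ho : o.left = v₀)
    (hx : LocZero (J'.over Z) (HP ((rs J v).obj F) n) (Over.mk (𝟙 Z)) (restrClass v F n o x)) :
    LocZero (J'.over X) (HP F n) (Over.mk v) ((HP F n).map (Over.homMk v₀ hv : Over.mk v ⟶ U).op x) :=
  locZero_of_map J' v₀ v hv (HP F n) x o ho ((locZero_map_iff (K := J') v (Over.mk (𝟙 Z))
    ((HP F n).map o.op x)).1 (hx.of_iso (rsIso J v F n)))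

theorem CmpSit.locZero_top (H : CmpSit h P A') {n : ℕ} (hV : ∀ i, 1 ≤ i → i ≤ n → Vanish h A' i) (Y : C)
    (F : Sheaf (J.over Y) AddCommGrpCat.{u}) (hF : A' Y ((epsX h Y).obj F))
    (x : HC F (n + 1) (Over.mk (𝟙 Y))) {X : C} (f : X ⟶ Y) (hf : P f)
    (hcov : Sieve.ofArrows (fun _ : PUnit.{u + 1} => X) (fun _ => f) ∈ J Y)
    (hx : LocZero (J'.over Y) (HP F (n + 1)) (Over.mk f)
      ((HP F (n + 1)).map (Over.homMk f (Category.comp_id f) : Over.mk f ⟶ Over.mk (𝟙 Y)).op x)) :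
    LocZero (J'.over Y) (HP F (n + 1)) (Over.mk (𝟙 Y)) x := by
  obtain ⟨-, φ, hinj, himg⟩ := cmp (SiteCmp.over_le h Y) n F fun i h1 h2 => hV i h1 h2 Y F hF
  obtain ⟨θ, hθ⟩ := himg _ _ hx
  let t : Over.mk f ⟶ Over.mk (𝟙 Y) := Over.homMk f (Category.comp_id f)
  have hres : ∀ {V : Over Y} (a : V ⟶ Over.mk f),
      φ.app (op V) ((HP ((epsX h Y).obj F) (n + 1)).map a.op θ) = (HP F (n + 1)).map (a ≫ t).op x := fun a => by
    rw [op_comp, Functor.map_comp, ConcreteCategory.comp_apply]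
    exact (NatTrans.naturality_apply φ a.op θ).trans (congrArg _ hθ)
  obtain ⟨ι, Z, g, hS, hkill⟩ := H.exists_cover_killing f hf hcov ((epsX h Y).obj F) hF n θ
    (fun W p q hW => by
      let a₁ : Over.mk (p ≫ f) ⟶ Over.mk f := Over.homMk p rfl
      let a₂ : Over.mk (p ≫ f) ⟶ Over.mk f := Over.homMk q hW.w.symm
      have ha : a₁ ≫ t = a₂ ≫ t := Over.OverMorphism.ext (by simp [a₁, a₂, t, hW.w])
      refine hinj _ ((hres a₁).trans (Eq.trans ?_ (hres a₂).symm))
      rw [ha])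
  refine locZero_of_family (fun i => Over.mk (g i)) (fun i => (Over.homMk (g i) (Category.comp_id _) :
    Over.mk (g i) ⟶ Over.mk (𝟙 Y))) ?_ fun i => ?_
  · rw [J'.mem_over_iff]
    refine J'.superset_covering ?_ hS
    rintro V a ha
    obtain ⟨j, b, rfl⟩ := (Sieve.mem_ofArrows_iff _ _ _).1 ha
    rw [Sieve.overEquiv_iff]
    exact (Sieve.mem_ofArrows_iff _ _ _).2 ⟨j, Over.homMk b (by simp), by ext; simp⟩
  · obtain ⟨W, p, q, hW, hp⟩ := H.base f hf (g i)
    haveI : HasPullbacksAlong p := H.hasPullbacksAlong hp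
    have hcovp : Sieve.ofArrows (fun _ : PUnit.{u + 1} => W) (fun _ => p) ∈ J (Z i) := by
      refine J.superset_covering ?_ (J.pullback_stable (g i) hcov)
      rintro V a ha
      obtain ⟨_, b, hb⟩ := (Sieve.mem_ofArrows_iff _ _ _).1 ha
      exact (Sieve.mem_ofArrows_iff _ _ _).2 ⟨PUnit.unit, hW.lift a b hb, (hW.lift_fst _ _ _).symm⟩
    let o : (Over.map (g i)).obj (Over.mk (𝟙 (Z i))) ⟶ Over.mk (𝟙 Y) := Over.homMk (g i) (by simp)
    let c : (Over.map (g i)).obj (Over.mk p) ⟶ Over.mk (q ≫ f) := Over.homMk (𝟙 W) (by simp [hW.w])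
    let a' : Over.mk (q ≫ f) ⟶ Over.mk f := Over.homMk q rfl
    have hc : (Over.map (g i)).map (Over.homMk p (Category.comp_id p) : Over.mk p ⟶ Over.mk (𝟙 (Z i))) ≫ o =
        c ≫ a' ≫ t := by
      ext
      simp [o, c, a', t, hW.w]
    have hk : (HP ((epsX h Y).obj F) (n + 1)).map a'.op θ = 0 := hkill i W p q hW
    have ha' : (HP F (n + 1)).map (a' ≫ t).op x = 0 := by
      have e := hres a'
      rw [hk, map_zero] at e
      exact e.symm
    have h2 := H.kill hV p hp hcovp ((rs J (g i)).obj F) (H.inA_rs (g i) hF) (restrClass (g i) F (n + 1) o x)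
      (restrClass_map_eq_zero (g i) F (n + 1) o x _ (a' ≫ t) c hc ha')
    have h3 := locZero_of_restrClass (J' := J') (U := Over.mk (𝟙 Y)) (Z := Z i) (g i) (g i)
      (Category.comp_id (g i)) F (n + 1 : ℕ) x o rfl h2
    exact h3

/-- Higher cohomology is locally zero for the coarser topology. -/
theorem CmpSit.vanish (H : CmpSit h P A') : ∀ n : ℕ, 1 ≤ n → Vanish h A' n := by
  intro n
  induction n using Nat.strong_induction_on with
  | _ m ih =>
  intro hm
  obtain ⟨n, rfl⟩ : ∃ n, m = n + 1 := ⟨m - 1, by omega⟩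
  have hV : ∀ i, 1 ≤ i → i ≤ n → Vanish h A' i := fun i h1 h2 => ih i (by omega) h1
  intro X F hF U x
  obtain ⟨S, hS, hx⟩ := (locZero_over_iff _ _).1 (allLocZero_HP n F U x)
  obtain ⟨ι, V, v, hv, hj⟩ := H.cover U.left S hS
  refine locZero_of_family (fun j => Over.mk (v j ≫ U.hom)) (fun j => (Over.homMk (v j) rfl :
    Over.mk (v j ≫ U.hom) ⟶ U)) ?_ fun j => ?_
  · rw [J'.mem_over_iff]
    refine J'.superset_covering ?_ hv
    rintro V' a ha
    obtain ⟨j, b, rfl⟩ := (Sieve.mem_ofArrows_iff _ _ _).1 ha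
    rw [Sieve.overEquiv_iff]
    exact (Sieve.mem_ofArrows_iff _ _ _).2 ⟨j, Over.homMk b (by simp), by ext; simp⟩
  · obtain ⟨W, w, hw, hwcov, κ, Wk, wk, hwk, hSk⟩ := hj j
    let g := v j ≫ U.hom
    let o : (Over.map g).obj (Over.mk (𝟙 (V j))) ⟶ U := Over.homMk (v j) (by simp [g])
    refine locZero_of_restrClass (v j) g rfl F (n + 1) x o rfl
      (H.locZero_top hV (V j) ((rs J g).obj F) (H.inA_rs g hF) (restrClass g F (n + 1) o x) w hw hwcov ?_)
    refine locZero_of_family (fun k => Over.mk (wk k ≫ w)) (fun k => (Over.homMk (wk k) rfl :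
      Over.mk (wk k ≫ w) ⟶ Over.mk w)) ?_ fun k => ?_
    · rw [J'.mem_over_iff]
      refine J'.superset_covering ?_ hwk
      rintro V' a ha
      obtain ⟨k, b, rfl⟩ := (Sieve.mem_ofArrows_iff _ _ _).1 ha
      rw [Sieve.overEquiv_iff]
      exact (Sieve.mem_ofArrows_iff _ _ _).2 ⟨k, Over.homMk b (by simp), by ext; simp⟩
    · let m : Over.mk (wk k ≫ w) ⟶ Over.mk (𝟙 (V j)) := Over.homMk (wk k ≫ w) (by simp)
      have hm : (Over.homMk (wk k) rfl : Over.mk (wk k ≫ w) ⟶ Over.mk w) ≫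
          (Over.homMk w (Category.comp_id w) : Over.mk w ⟶ Over.mk (𝟙 (V j))) = m := by
        ext; simp [m]
      let c : (Over.map g).obj (Over.mk (wk k ≫ w)) ⟶ Over.mk ((wk k ≫ w ≫ v j) ≫ U.hom) :=
        Over.homMk (𝟙 (Wk k)) (by simp [g])
      have hc : (Over.map g).map m ≫ o =
          c ≫ (Over.homMk (wk k ≫ w ≫ v j) rfl : Over.mk ((wk k ≫ w ≫ v j) ≫ U.hom) ⟶ U) := by
        ext; simp [m, o, c]
      rw [presheaf_map_comp (HP ((rs J g).obj F) (n + 1))
        (Over.homMk w (Category.comp_id w) : Over.mk w ⟶ Over.mk (𝟙 (V j))) _ m hm (restrClass g F (n + 1) o x),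
        restrClass_map_eq_zero g F (n + 1) o x m _ c hc (hx _ (hSk k))]
      exact locZero_zero

/-- The preimage of the class is weak Serre. -/
theorem CmpSit.isWeakSerre (H : CmpSit h P A') (X : C) : WSerre.IsWeakSerre ((A' X).inverseImage (epsX h X)) :=
  { exists_zero := by
      refine ⟨_, isZero_zero _, ?_⟩
      obtain ⟨Z, hZ, hA⟩ := (A' X).exists_prop_of_containsZero
      exact (A' X).prop_of_iso (hZ.iso ((epsX h X).map_isZero (isZero_zero _))) hA
    kernels_le := fun _ ⟨g, k, hk, hg⟩ => (A' X).prop_of_iso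
      ((PreservesKernel.iso (epsX h X) g).symm ≪≫
        (epsX h X).mapIso (IsLimit.conePointUniqueUpToIso (limit.isLimit (parallelPair g 0)) hk)) ((A' X).prop_kernel _ hg.1 hg.2)
    cokernels_le := fun _ ⟨g, k, hk, hg⟩ => (A' X).prop_of_iso
      ((epsX h X).mapIso (IsColimit.coconePointUniqueUpToIso (colimit.isColimit (parallelPair g 0)) hk))
      (H.exists_cokernel g hg.1 hg.2).1
    prop_X₂_of_shortExact := fun {S} hS h₁ h₃ =>
      (A' X).prop_X₂_of_shortExact (shortExact_map_eps (SiteCmp.over_le h X) hS (H.vanish 1 le_rfl X S.X₁ h₁)) h₁ h₃ }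

/-- The higher direct images for the two topologies. -/
theorem CmpSit.nonempty_iso_rightDerived (H : CmpSit h P A') {n : ℕ}
    (hV : ∀ i, 1 ≤ i → i ≤ n → Vanish h A' i) {X Y : C} (f : X ⟶ Y) (hf : P f)
    [((Over.map f).sheafPushforwardCocontinuous AddCommGrpCat.{u} (J'.over X) (J'.over Y)).Additive]
    [((Over.map f).sheafPushforwardCocontinuous AddCommGrpCat.{u} (J.over X) (J.over Y)).Additive]
    (F : Sheaf (J.over X) AddCommGrpCat.{u}) (hF : A' X ((epsX h X).obj F)) (i : ℕ) (hi : i ≤ n) :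
    Nonempty ((((Over.map f).sheafPushforwardCocontinuous AddCommGrpCat.{u} (J'.over X) (J'.over Y)).rightDerived i).obj
        ((epsX h X).obj F) ≅
      (epsX h Y).obj ((((Over.map f).sheafPushforwardCocontinuous AddCommGrpCat.{u} (J.over X) (J.over Y)).rightDerived i).obj F)) := by
  haveI : HasPullbacksAlong f := H.hasPullbacksAlong hf
  obtain ⟨e'⟩ := nonempty_rightDerived_iso (Over.pullback f)
    ((Over.map f).sheafPushforwardCocontinuous AddCommGrpCat.{u} (J'.over X) (J'.over Y)) (cocontPreIso J' f)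
    ((epsX h X).obj F) i
  obtain ⟨e⟩ := nonempty_rightDerived_iso (Over.pullback f)
    ((Over.map f).sheafPushforwardCocontinuous AddCommGrpCat.{u} (J.over X) (J.over Y)) (cocontPreIso J f) F i
  obtain ⟨c⟩ := H.nonempty_iso hV hF hi
  let Q := (Over.pullback f).op ⋙ HP F i
  have hR : A' Y ((presheafToSheaf (J'.over Y) AddCommGrpCat.{u}).obj Q) := H.good hV hf hF hi
  let R := H.liftJ _ hR
  let ψ : Q ⟶ R.obj := toSheafify (J'.over Y) Q
  haveI : Presheaf.IsLocallyInjective (J.over Y) ψ :=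
    ⟨fun {V} a b hab => SiteCmp.over_le h Y _ (Presheaf.equalizerSieve_mem (J'.over Y) (toSheafify (J'.over Y) Q) a b hab)⟩
  haveI : Presheaf.IsLocallySurjective (J.over Y) ψ :=
    ⟨fun {V} s => SiteCmp.over_le h Y _ (Presheaf.imageSieve_mem (J'.over Y) (toSheafify (J'.over Y) Q) (U := op V) s)⟩
  haveI : IsIso ((presheafToSheaf (J.over Y) AddCommGrpCat.{u}).map ψ) :=
    ((J.over Y).W_iff _).1 (((J.over Y).W_iff_isLocallyBijective ψ).2 ⟨inferInstance, inferInstance⟩)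
  exact ⟨e' ≪≫ (presheafToSheaf (J'.over Y) AddCommGrpCat.{u}).mapIso
      (Functor.isoWhiskerLeft (Over.pullback f).op c) ≪≫ (H.epsLiftIso _ hR).symm ≪≫
    (epsX h Y).mapIso ((asIso ((sheafificationAdjunction (J.over Y) AddCommGrpCat.{u}).counit.app R)).symm ≪≫
      (asIso ((presheafToSheaf (J.over Y) AddCommGrpCat.{u}).map ψ)).symm ≪≫ e.symm)⟩

end Groth.Agent.SiteCmpLib
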