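import Mathlib.Algebra.Homology.DerivedCategory.Ext.ExactSequences
import Mathlib.Algebra.Homology.DerivedCategory.Ext.EnoughInjectives
import Mathlib.CategoryTheory.Preadditive.Injective.Basic
import Mathlib.CategoryTheory.Abelian.Refinements
import Mathlib.Algebra.Homology.HomotopyCategory.MappingCone
import Mathlib.Algebra.Homology.QuasiIso
import Mathlib.CategoryTheory.Adjunction.Additive

/-!
# Bounded above acyclic complexes against acyclic objects
-/

set_option autoImplicit false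
set_option linter.style.haveILetI false

universe w v v' u u'

open CategoryTheory CategoryTheory.Limits CategoryTheory.Abelian

noncomputable section

namespace Groth.Agent.SiteCmpLib

variable {A : Type u} [Category.{v} A] [Abelian A] [HasExt.{w} A] [EnoughInjectives A]

/-- `N` is acyclic for `X`. -/
def ExtVanish (X N : A) : Prop := ∀ p : ℕ, Subsingleton (Ext.{w} X N (p + 1))

theorem extVanish_injective (X N : A) [Injective N] : ExtVanish.{w} X N := fun p =>
  Ext.subsingleton_of_injective X N p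

theorem extVanish_cokernel {X : A} {S : ShortComplex A} (hS : S.ShortExact) [Injective S.X₂]
    (h : ExtVanish.{w} X S.X₁) : ExtVanish.{w} X S.X₃ := fun p =>
  subsingleton_of_forall_eq 0 fun x => by
    obtain ⟨y, rfl⟩ := Ext.covariant_sequence_exact₃ X hS x rfl ((h (p + 1)).elim _ _)
    rw [(extVanish_injective X S.X₂ p).elim y 0, Ext.zero_comp]

/-- A short exact sequence into an injective. -/
theorem exists_shortExact_injective (N : A) :
    ∃ (S : ShortComplex A) (_ : S.ShortExact), Injective S.X₂ ∧ S.X₁ = N := by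
  obtain ⟨P⟩ := EnoughInjectives.presentation N
  exact ⟨ShortComplex.mk P.f (cokernel.π P.f) (cokernel.condition _),
    ShortComplex.ShortExact.mk' (ShortComplex.exact_of_g_is_cokernel _ (cokernelIsCokernel P.f))
      P.mono inferInstance, P.injective, rfl⟩

theorem extVanish_coproduct {T : Type*} (Y : T → A) [HasCoproduct Y] (N : A)
    (h : ∀ t, ExtVanish.{w} (Y t) N) : ExtVanish.{w} (∐ Y) N := by
  intro p
  induction p generalizing N with
  | zero =>
    obtain ⟨S, hS, hI, rfl⟩ := exists_shortExact_injective N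
    haveI := hI
    refine subsingleton_of_forall_eq 0 fun x => ?_
    obtain ⟨x₀, rfl⟩ := Ext.covariant_sequence_exact₁ (∐ Y) hS x
      ((extVanish_injective (∐ Y) S.X₂ 0).elim _ _) (zero_add 1)
    obtain ⟨a, rfl⟩ := (Ext.mk₀_bijective (∐ Y) S.X₃).2 x₀
    have hy : ∀ t, ∃ y : Y t ⟶ S.X₂, y ≫ S.g = Sigma.ι Y t ≫ a := fun t => by
      obtain ⟨y₀, hy₀⟩ := Ext.covariant_sequence_exact₃ (Y t) hS (Ext.mk₀ (Sigma.ι Y t ≫ a)) (zero_add 1)
        ((h t 0).elim _ _)
      obtain ⟨y, rfl⟩ := (Ext.mk₀_bijective (Y t) S.X₂).2 y₀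
      rw [Ext.mk₀_comp_mk₀] at hy₀
      exact ⟨y, (Ext.mk₀_bijective (Y t) S.X₃).1 hy₀⟩
    choose y hy using hy
    rw [show a = Sigma.desc y ≫ S.g from Sigma.hom_ext _ _ fun t => by simp [hy], ← Ext.mk₀_comp_mk₀,
      Ext.comp_assoc_of_second_deg_zero, hS.comp_extClass, Ext.comp_zero]
  | succ p ih =>
    obtain ⟨S, hS, hI, rfl⟩ := exists_shortExact_injective N
    haveI := hI
    refine subsingleton_of_forall_eq 0 fun x => ?_
    obtain ⟨x₀, rfl⟩ := Ext.covariant_sequence_exact₁ (∐ Y) hS x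
      ((extVanish_injective (∐ Y) S.X₂ (p + 1)).elim _ _) rfl
    rw [(ih S.X₃ fun t => extVanish_cokernel hS (h t)).elim x₀ 0, Ext.zero_comp]

/-- Maps out of a bounded above acyclic complex into an acyclic object: cocycles are coboundaries. -/
theorem exists_factor_of_exact (M : CochainComplex A ℤ) (b : ℤ) (hb : ∀ i, b < i → IsZero (M.X i))
    (hM : ∀ i, M.ExactAt i) :
    ∀ (k : ℕ) (n : ℤ), b < n + k → ∀ (N : A), (∀ m, ExtVanish.{w} (M.X m) N) →
      ∀ φ : M.X n ⟶ N, M.d (n - 1) n ≫ φ = 0 → ∃ ψ : M.X (n + 1) ⟶ N, M.d n (n + 1) ≫ ψ = φ := by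
  intro k
  induction k with
  | zero =>
    intro n hn N _ φ _
    exact ⟨0, by rw [comp_zero]; exact ((hb n (by simpa using hn)).eq_of_src _ _).symm⟩
  | succ k ih =>
    intro n hn N hN φ hφ
    obtain ⟨S, hS, hI, rfl⟩ := exists_shortExact_injective N
    haveI := hI
    haveI := hS.mono_f
    let E := M.sc' (n - 1) n (n + 1)
    have hE : E.Exact := (M.exactAt_iff' (n - 1) n (n + 1) (by simp) (by simp)).1 (hM n)
    have w : E.f ≫ φ ≫ S.f = 0 := by rw [reassoc_of% (show E.f ≫ φ = 0 from hφ), zero_comp]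
    let ψ : M.X (n + 1) ⟶ S.X₂ := hE.descToInjective (φ ≫ S.f) w
    have hψ : M.d n (n + 1) ≫ ψ = φ ≫ S.f := hE.comp_descToInjective (φ ≫ S.f) w
    obtain ⟨χ, hχ⟩ := ih (n + 1) (by push_cast at hn ⊢; omega) S.X₃ (fun m => extVanish_cokernel hS (hN m))
      (ψ ≫ S.g) (by rw [show n + 1 - 1 = n by omega, reassoc_of% hψ, S.zero, comp_zero])
    obtain ⟨χ₀, hχ₀⟩ := Ext.covariant_sequence_exact₃ (M.X (n + 1 + 1)) hS (Ext.mk₀ χ) (zero_add 1)
      ((hN _ 0).elim _ _)
    obtain ⟨χ', rfl⟩ := (Ext.mk₀_bijective _ S.X₂).2 χ₀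
    rw [Ext.mk₀_comp_mk₀] at hχ₀
    have hχ' := (Ext.mk₀_bijective _ S.X₃).1 hχ₀
    obtain ⟨θ, hθ⟩ : ∃ θ, θ ≫ S.f = ψ - M.d (n + 1) (n + 1 + 1) ≫ χ' :=
      ⟨hS.exact.lift _ (by rw [Preadditive.sub_comp, Category.assoc, hχ', hχ, sub_self]), hS.exact.lift_f _ _⟩
    refine ⟨θ, ?_⟩
    rw [← cancel_mono S.f, Category.assoc, hθ, Preadditive.comp_sub, hψ, M.d_comp_d_assoc, zero_comp, sub_zero]

variable {B : Type u'} [Category.{v'} B] [Abelian B] [EnoughInjectives B] {F : A ⥤ B} {G : B ⥤ A}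
  [F.Additive]

/-- A left adjoint keeps a bounded above acyclic complex acyclic if its terms are acyclic for images of injectives. -/
theorem exactAt_map_of_adjoint (adj : F ⊣ G) (M : CochainComplex A ℤ) (b : ℤ)
    (hb : ∀ i, b < i → IsZero (M.X i)) (hM : ∀ i, M.ExactAt i)
    (h : ∀ (J : B), Injective J → ∀ m, ExtVanish.{w} (M.X m) (G.obj J)) (n : ℤ) :
    ((F.mapHomologicalComplex (ComplexShape.up ℤ)).obj M).ExactAt n := by
  let M' := (F.mapHomologicalComplex (ComplexShape.up ℤ)).obj M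
  let E := M'.sc' (n - 1) n (n + 1)
  rw [M'.exactAt_iff' (n - 1) n (n + 1) (by simp) (by simp), ShortComplex.exact_iff_isZero_homology]
  obtain ⟨P⟩ := EnoughInjectives.presentation E.homology
  let φ₀ : E.opcycles ⟶ P.J := Injective.factorThru P.f E.homologyι
  let φ : F.obj (M.X n) ⟶ P.J := E.pOpcycles ≫ φ₀
  have h1 : F.map (M.d (n - 1) n) ≫ φ = 0 := by
    show E.f ≫ E.pOpcycles ≫ φ₀ = 0
    rw [E.f_pOpcycles_assoc, zero_comp]
  haveI : G.Additive := adj.right_adjoint_additive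
  obtain ⟨ψ, hψ⟩ := exists_factor_of_exact M b hb hM (b - n + 1).toNat n (by omega) (G.obj P.J)
    (h P.J P.injective) (adj.homEquiv _ _ φ) (by
      rw [← adj.homEquiv_naturality_left, h1, Adjunction.homEquiv_unit, G.map_zero, comp_zero]
      )
  have h2 : φ = E.g ≫ (adj.homEquiv _ _).symm ψ := by
    show φ = F.map (M.d n (n + 1)) ≫ _
    rw [← adj.homEquiv_naturality_left_symm, hψ, Equiv.symm_apply_apply]
  have h3 : φ₀ = E.fromOpcycles ≫ (adj.homEquiv _ _).symm ψ := by
    rw [← cancel_epi E.pOpcycles, E.p_fromOpcycles_assoc]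
    exact h2
  have h4 : P.f = 0 := by
    rw [← Injective.comp_factorThru P.f E.homologyι]
    show E.homologyι ≫ φ₀ = 0
    rw [h3, E.homologyι_comp_fromOpcycles_assoc, zero_comp]
  haveI : Mono (0 : E.homology ⟶ P.J) := h4 ▸ P.mono
  exact IsZero.of_mono_zero E.homology P.J

end Groth.Agent.SiteCmpLib
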