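import Groth.Agent.SiteCmpLib.EquivCd

/-!
# Comparison of two topologies: direct images of modules with locally vanishing cohomology
-/

set_option autoImplicit false
set_option linter.style.haveILetI false

universe u v w

open CategoryTheory CategoryTheory.Limits CategoryTheory.Abelian Opposite DerivedCategory

attribute [local instance] HasDerivedCategory.standard

noncomputable section

namespace Groth.Agent.SiteCmpLib

section General

variable {A : Type w} [Category.{v} A] [Abelian A] {S T : ShortComplex A} (φ : S ⟶ T)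

theorem isIso₃_of_shortExact (hS : S.ShortExact) (hT : T.ShortExact) [IsIso φ.τ₁] [IsIso φ.τ₂] : IsIso φ.τ₃ := by
  haveI := hS.epi_g
  haveI := hT.epi_g
  obtain ⟨t, ht⟩ := CokernelCofork.IsColimit.desc' hT.gIsCokernel (inv φ.τ₂ ≫ S.g) (by
    rw [← cancel_epi φ.τ₁, φ.comm₁₂_assoc, IsIso.hom_inv_id_assoc, S.zero, comp_zero])
  replace ht : T.g ≫ t = inv φ.τ₂ ≫ S.g := ht
  refine ⟨t, ?_, ?_⟩
  · rw [← cancel_epi S.g, ← φ.comm₂₃_assoc, ht, IsIso.hom_inv_id_assoc, Category.comp_id]
  · rw [← cancel_epi T.g, reassoc_of% ht, ← φ.comm₂₃, IsIso.inv_hom_id_assoc, Category.comp_id]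

theorem isIso₁_of_shortExact (hS : S.ShortExact) (hT : T.ShortExact) [IsIso φ.τ₂] [IsIso φ.τ₃] : IsIso φ.τ₁ := by
  haveI := hS.mono_f
  haveI := hT.mono_f
  obtain ⟨t, ht⟩ := KernelFork.IsLimit.lift' hS.fIsKernel (T.f ≫ inv φ.τ₂) (by
    rw [← cancel_mono φ.τ₃, zero_comp, Category.assoc, Category.assoc, ← φ.comm₂₃, IsIso.inv_hom_id_assoc, T.zero])
  replace ht : t ≫ S.f = T.f ≫ inv φ.τ₂ := ht
  refine ⟨t, ?_, ?_⟩
  · rw [← cancel_mono S.f, Category.assoc, ht, φ.comm₁₂_assoc, IsIso.hom_inv_id, Category.comp_id,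
      Category.id_comp]
  · rw [← cancel_mono T.f, Category.assoc, φ.comm₁₂, reassoc_of% ht, IsIso.inv_hom_id, Category.comp_id,
      Category.id_comp]

end General

section Eps

variable {C : Type u} [SmallCategory C] {J J' : GrothendieckTopology C} (h : J' ≤ J) (O : Sheaf J CommRingCat.{u})

instance full_eps_push : (SiteCmp.eps h O).push.Full where
  map_surjective {F G} φ := by
    refine ⟨⟨PresheafOfModules.homMk (M₁ := F.val) (M₂ := G.val)
      { app := fun X => AddCommGrpCat.ofHom (φ.val.app X).hom.toAddMonoidHom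
        naturality := fun X Y g => by
          ext x
          exact PresheafOfModules.naturality_apply φ.val g x }
      (fun X r x => ?_)⟩, ?_⟩
    · exact (φ.val.app X).hom.map_smul r x
    · ext X x
      rfl

instance faithful_eps_push : (SiteCmp.eps h O).push.Faithful where
  map_injective {F G} a b e := by
    ext X x
    exact congrArg (fun ψ : (SiteCmp.eps h O).push.obj F ⟶ (SiteCmp.eps h O).push.obj G => (ψ.val.app X).hom x) e

/-- Pulling back a direct image gives back the sheaf. -/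
def pullPushIso (F : ModSite.Mod O) :
    (SiteCmp.eps h O).pull.obj ((SiteCmp.eps h O).push.obj F) ≅ F :=
  haveI := (SiteCmp.eps h O).adj.counit_isIso_of_R_fully_faithful
  asIso ((SiteCmp.eps h O).adj.counit.app F)

variable [PreservesFiniteLimits (SiteCmp.eps h O).pull]
  (A : ObjectProperty (ModSite.Mod O)) [WSerre.IsWeakSerre A] (B : Set C)
  (h3 : ∀ U : C, ∃ (ι : Type u) (Y : ι → C) (g : ∀ i, Y i ⟶ U), Sieve.ofArrows Y g ∈ J' U ∧ ∀ i, Y i ∈ B)
  (h4 : ∀ U ∈ B, ∀ F : ModSite.Mod O, A F → ∀ p : ℕ, 0 < p → Subsingleton (ModSite.HU O F p U))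

omit [PreservesFiniteLimits (SiteCmp.eps h O).pull] in
theorem prop_map_iff (M : ModSite.Mod (SiteCmp.epsRing h O)) :
    A.map (SiteCmp.eps h O).push M ↔
      A ((SiteCmp.eps h O).pull.obj M) ∧ IsIso ((SiteCmp.eps h O).adj.unit.app M) := by
  constructor
  · rw [ObjectProperty.prop_map_iff]
    rintro ⟨F, hF, ⟨e⟩⟩
    refine ⟨A.prop_of_iso ((pullPushIso h O F).symm ≪≫ (SiteCmp.eps h O).pull.mapIso e) hF,
      (NatTrans.isIso_app_iff_of_iso (SiteCmp.eps h O).adj.unit e).1 ?_⟩
    haveI := (SiteCmp.eps h O).adj.counit_isIso_of_R_fully_faithful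
    exact IsIso.of_isIso_fac_right ((SiteCmp.eps h O).adj.right_triangle_components F)
  · rintro ⟨hA, _⟩
    exact (ObjectProperty.prop_map_iff _ _ _).2
      ⟨_, hA, ⟨(asIso ((SiteCmp.eps h O).adj.unit.app M)).symm⟩⟩

include h4 in
omit [PreservesFiniteLimits (SiteCmp.eps h O).pull] [WSerre.IsWeakSerre A] in
theorem subsingleton_ext_pullFree [HasExt.{u} (ModSite.Mod O)] (F : ModSite.Mod O) (hF : A F) (V : C) (hV : V ∈ B)
    (p : ℕ) (hp : 0 < p) : Subsingleton (Ext.{u} (freeOn O ((SiteCmp.eps h O).fn.obj V)) F p) :=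
  RlimCrit.subsingleton_ext_mod (ModSite.ringSh O) _ F p (h4 V hV F hF p hp)

include h3 h4 in
omit [PreservesFiniteLimits (SiteCmp.eps h O).pull] [WSerre.IsWeakSerre A] in
/-- Direct images are exact on short exact sequences with first term in the subcategory. -/
theorem shortExact_map_push (S : ShortComplex (ModSite.Mod O)) (hS : S.ShortExact) (hA : A S.X₁) :
    (S.map (SiteCmp.eps h O).push).ShortExact := by
  haveI : IsGrothendieckAbelian.{u} (ModSite.Mod O) := ModTensor.isGrothendieckAbelian_mod O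
  haveI : HasExt.{u} (ModSite.Mod O) := inferInstance
  let P := RlimCrit.isLocGen_mod (J := J') (ModSite.ringSh (SiteCmp.epsRing h O))
  haveI := hS.mono_f
  haveI := hS.epi_g
  haveI : PreservesFiniteLimits (SiteCmp.eps h O).push := inferInstance
  refine ShortComplex.ShortExact.mk' (hS.exact.map_of_mono_of_preservesKernel (SiteCmp.eps h O).push hS.mono_f
    inferInstance) ((SiteCmp.eps h O).push.map_mono S.f) ?_
  refine Preadditive.epi_of_cancel_zero _ fun {W} k hk => P.det k fun U x => ?_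
  obtain ⟨ι, Y, g, hc, hY⟩ := h3 U
  refine P.sep_family _ Y g hc fun i => ?_
  let y : freeOn (SiteCmp.epsRing h O) (Y i) ⟶ (SiteCmp.eps h O).push.obj S.X₃ :=
    (RlimCrit.modP (ModSite.ringSh (SiteCmp.epsRing h O))).map (g i) ≫ x
  let e := pullFreeOnIso (SiteCmp.eps h O) (Y i)
  let z := e.inv ≫ ((SiteCmp.eps h O).adj.homEquiv _ _).symm y
  haveI := subsingleton_ext_pullFree h O A B h4 S.X₁ hA (Y i) (hY i) 1 one_pos
  obtain ⟨z₂, hz₂⟩ := Ext.covariant_sequence_exact₃ _ hS (Ext.mk₀ z) (zero_add 1) (Subsingleton.elim _ _)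
  obtain ⟨z₂, rfl⟩ := (Ext.mk₀_bijective _ _).2 z₂
  rw [Ext.mk₀_comp_mk₀] at hz₂
  replace hz₂ : z₂ ≫ S.g = z := (Ext.mk₀_bijective _ _).1 hz₂
  have hy : ((SiteCmp.eps h O).adj.homEquiv _ _ (e.hom ≫ z₂)) ≫ (SiteCmp.eps h O).push.map S.g = y := by
    rw [← Adjunction.homEquiv_naturality_right, Category.assoc, hz₂, Iso.hom_inv_id_assoc]
    exact Equiv.apply_symm_apply _ _
  rw [← Category.assoc]
  show y ≫ k = 0
  exact (congrArg (· ≫ k) hy.symm).trans ((Category.assoc _ _ _).trans
    ((congrArg (_ ≫ ·) hk).trans comp_zero))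

include h3 h4 in
theorem shortExact_map_pull_push (S : ShortComplex (ModSite.Mod (SiteCmp.epsRing h O))) (hS : S.ShortExact)
    (hA : A ((SiteCmp.eps h O).pull.obj S.X₁)) :
    ((S.map (SiteCmp.eps h O).pull).map (SiteCmp.eps h O).push).ShortExact :=
  shortExact_map_push h O A B h3 h4 _ (hS.map_of_exact (SiteCmp.eps h O).pull) hA

/-- The unit on a short complex. -/
def unitHom (S : ShortComplex (ModSite.Mod (SiteCmp.epsRing h O))) :
    S ⟶ (S.map (SiteCmp.eps h O).pull).map (SiteCmp.eps h O).push :=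
  ShortComplex.homMk ((SiteCmp.eps h O).adj.unit.app S.X₁) ((SiteCmp.eps h O).adj.unit.app S.X₂)
    ((SiteCmp.eps h O).adj.unit.app S.X₃) ((SiteCmp.eps h O).adj.unit.naturality S.f).symm
    ((SiteCmp.eps h O).adj.unit.naturality S.g).symm

include h3 h4 in
/-- The essential image of the subcategory under direct image is weak Serre. -/
theorem isWeakSerre_map_push : WSerre.IsWeakSerre (A.map (SiteCmp.eps h O).push) := by
  let f := SiteCmp.eps h O
  have hse := shortExact_map_pull_push h O A B h3 h4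
  have key : ∀ {M N : ModSite.Mod (SiteCmp.epsRing h O)} (g : M ⟶ N), A.map f.push M → A.map f.push N →
      A.map f.push (kernel g) ∧ A.map f.push (cokernel g) := by
    intro M N g hM hN
    obtain ⟨hM, iM⟩ := (prop_map_iff h O A M).1 hM
    obtain ⟨hN, iN⟩ := (prop_map_iff h O A N).1 hN
    haveI : f.adj.unit.app M ≫ 𝟙 _ = f.adj.unit.app M := Category.comp_id _
    let S₁ : ShortComplex (ModSite.Mod (SiteCmp.epsRing h O)) :=
      ShortComplex.mk (kernel.ι g) (Abelian.factorThruImage g) (by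
        rw [← cancel_mono (Abelian.image.ι g), Category.assoc, Abelian.image.fac, kernel.condition, zero_comp])
    let S₂ : ShortComplex (ModSite.Mod (SiteCmp.epsRing h O)) :=
      ShortComplex.mk (Abelian.image.ι g) (cokernel.π g) (kernel.condition _)
    have hS₁ : S₁.ShortExact := by
      refine ShortComplex.ShortExact.mk' ?_ inferInstance inferInstance
      let φ : S₁ ⟶ ShortComplex.mk (kernel.ι g) g (kernel.condition g) :=
        ShortComplex.homMk (𝟙 _) (𝟙 _) (Abelian.image.ι g) (by simp [S₁])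
          ((Category.id_comp _).trans (Abelian.image.fac g).symm)
      haveI : Epi φ.τ₁ := inferInstanceAs (Epi (𝟙 _))
      haveI : IsIso φ.τ₂ := inferInstanceAs (IsIso (𝟙 _))
      haveI : Mono φ.τ₃ := inferInstanceAs (Mono (Abelian.image.ι g))
      exact (ShortComplex.exact_iff_of_epi_of_isIso_of_mono φ).2
        (ShortComplex.exact_of_f_is_kernel _ (kernelIsKernel g))
    have hS₂ : S₂.ShortExact := ShortComplex.ShortExact.mk'
      (ShortComplex.exact_of_f_is_kernel _ (kernelIsKernel (cokernel.π g))) inferInstance inferInstance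
    have hK : A (f.pull.obj (kernel g)) :=
      A.prop_of_iso (PreservesKernel.iso f.pull g).symm (A.prop_kernel _ hM hN)
    have hI : A (f.pull.obj (Abelian.image g)) :=
      A.prop_of_isColimit_cokernelCofork (hS₁.map_of_exact f.pull).gIsCokernel hK hM
    have hQ : A (f.pull.obj (cokernel g)) :=
      A.prop_of_isColimit_cokernelCofork (hS₂.map_of_exact f.pull).gIsCokernel hI hN
    have hT₁ := hse S₁ hS₁ hK
    have hT₂ := hse S₂ hS₂ hI
    haveI : IsIso (f.adj.unit.app M) := iM
    haveI : IsIso (f.adj.unit.app N) := iN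
    haveI : IsIso (f.adj.unit.app (Abelian.image g)) := by
      haveI := hT₁.epi_g
      haveI := hS₂.mono_f
      haveI : Epi (f.adj.unit.app M ≫ f.push.map (f.pull.map (Abelian.factorThruImage g))) :=
        @epi_comp _ _ _ _ _ _ _ _ (inferInstanceAs (Epi ((S₁.map f.pull).map f.push).g))
      haveI : Epi (f.adj.unit.app (Abelian.image g)) := by
        refine @epi_of_epi _ _ _ _ _ (Abelian.factorThruImage g) _ ?_
        exact (f.adj.unit.naturality (Abelian.factorThruImage g)).symm ▸ (inferInstanceAs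
          (Epi (f.adj.unit.app M ≫ f.push.map (f.pull.map (Abelian.factorThruImage g)))))
      haveI : Mono (f.adj.unit.app (Abelian.image g)) := by
        refine @mono_of_mono _ _ _ _ _ _ (f.push.map (f.pull.map (Abelian.image.ι g))) ?_
        exact (f.adj.unit.naturality (Abelian.image.ι g)) ▸ (inferInstanceAs
          (Mono (Abelian.image.ι g ≫ f.adj.unit.app N)))
      exact isIso_of_mono_of_epi _
    refine ⟨(prop_map_iff h O A _).2 ⟨hK, ?_⟩, (prop_map_iff h O A _).2 ⟨hQ, ?_⟩⟩
    · haveI : IsIso (unitHom h O S₁).τ₂ := iM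
      haveI : IsIso (unitHom h O S₁).τ₃ := inferInstanceAs (IsIso (f.adj.unit.app (Abelian.image g)))
      exact isIso₁_of_shortExact (unitHom h O S₁) hS₁ hT₁
    · haveI : IsIso (unitHom h O S₂).τ₁ := inferInstanceAs (IsIso (f.adj.unit.app (Abelian.image g)))
      haveI : IsIso (unitHom h O S₂).τ₂ := iN
      exact isIso₃_of_shortExact (unitHom h O S₂) hS₂ hT₂
  haveI hiso : (A.map f.push).IsClosedUnderIsomorphisms := inferInstance
  exact
    { exists_zero := by
        obtain ⟨Z, hZ, hA⟩ := A.exists_prop_of_containsZero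
        exact ⟨f.push.obj Z, f.push.map_isZero hZ, (ObjectProperty.prop_map_iff _ _ _).2 ⟨Z, hA, ⟨Iso.refl _⟩⟩⟩
      kernels_le := fun _ ⟨g, k, hk, hg⟩ => (A.map f.push).prop_of_iso
        (IsLimit.conePointUniqueUpToIso (kernelIsKernel g) hk) (key g hg.1 hg.2).1
      cokernels_le := fun _ ⟨g, k, hk, hg⟩ => (A.map f.push).prop_of_iso
        (IsColimit.coconePointUniqueUpToIso (cokernelIsCokernel g) hk) (key g hg.1 hg.2).2
      prop_X₂_of_shortExact := fun {S} hS h₁ h₃ => by
        obtain ⟨a₁, i₁⟩ := (prop_map_iff h O A _).1 h₁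
        obtain ⟨a₃, i₃⟩ := (prop_map_iff h O A _).1 h₃
        haveI : IsIso (unitHom h O S).τ₁ := i₁
        haveI : IsIso (unitHom h O S).τ₃ := i₃
        exact (prop_map_iff h O A _).2 ⟨A.prop_X₂_of_shortExact (hS.map_of_exact f.pull) a₁ a₃,
          ShortComplex.isIso₂_of_shortExact_of_isIso₁₃ (unitHom h O S) hS (hse S hS a₁)⟩ }

end Eps

end Groth.Agent.SiteCmpLib
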