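import Groth.Agent.SiteCmpLib.Push
import Mathlib.Algebra.Homology.DerivedCategory.Fractions
import Mathlib.Algebra.Homology.DerivedCategory.KInjective

/-!
# Maps from free modules to direct images of K-injective complexes
-/

set_option autoImplicit false
set_option linter.style.haveILetI false

universe u

open CategoryTheory CategoryTheory.Limits Opposite

attribute [local instance] HasDerivedCategory.standard

noncomputable section

namespace Groth.Agent.SiteCmpLib

variable {C : Type u} [SmallCategory C] {J : GrothendieckTopology C} {O_C : Sheaf J CommRingCat.{u}}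
  {D : Type u} [SmallCategory D] {K : GrothendieckTopology D} {O_D : Sheaf K CommRingCat.{u}}
  (f : ModSite.RMor O_C O_D) (V : D) (q : ℤ)

/-- The quotient functor to the homotopy category. -/
abbrev quotH {A : Type*} [Category A] [Abelian A] :
    CochainComplex A ℤ ⥤ HomotopyCategory A (ComplexShape.up ℤ) :=
  HomotopyCategory.quotient A (ComplexShape.up ℤ)

/-- A free module in degree `q`. -/
abbrev freeCx : CochainComplex (ModSite.Mod O_D) ℤ :=
  (HomologicalComplex.single (ModSite.Mod O_D) (ComplexShape.up ℤ) q).obj (freeOn O_D V)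

theorem pushAcyc_freeCx (n : ℤ) : PushAcyc f ((freeCx (O_D := O_D) V q).X n) := by
  by_cases h : n = q
  · subst h
    exact (resClass_pushAcyc f).iso (HomologicalComplex.singleObjXSelf _ _ _).symm
      fun I hI => @extVanish_freeOn_push _ _ _ _ _ _ _ _ f I hI V
  · exact (resClass_pushAcyc f).zero (HomologicalComplex.isZero_single_obj_X _ _ _ _ h)

theorem exists_refine {L : HomotopyCategory (ModSite.Mod O_D) (ComplexShape.up ℤ)}
    (s : L ⟶ quotH.obj (freeCx (O_D := O_D) V q))
    (hs : HomotopyCategory.quasiIso (ModSite.Mod O_D) (ComplexShape.up ℤ) s) :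
    ∃ (N : HomotopyCategory (ModSite.Mod O_D) (ComplexShape.up ℤ)) (c : N ⟶ L),
      IsIso (DerivedCategory.Qh.map (c ≫ s)) ∧
      IsIso (DerivedCategory.Qh.map ((f.pull.mapHomotopyCategory (ComplexShape.up ℤ)).map (c ≫ s))) := by
  obtain ⟨L, rfl⟩ : ∃ M, quotH.obj M = L := ⟨L.as, rfl⟩
  obtain ⟨s, rfl⟩ := (HomotopyCategory.quotient (ModSite.Mod O_D) (ComplexShape.up ℤ)).map_surjective s
  replace hs : QuasiIso s :=
    (HomologicalComplex.mem_quasiIso_iff s).1 ((HomotopyCategory.quotient_map_mem_quasiIso_iff s).1 hs)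
  have hS : ∀ n, q < n → IsZero ((freeCx (O_D := O_D) V q).X n) := fun n hn =>
    HomologicalComplex.isZero_single_obj_X _ _ _ _ (by omega)
  haveI : CochainComplex.IsLE L q := (CochainComplex.isLE_iff _ _).2 fun i hi => by
    haveI : QuasiIsoAt s i := hs.quasiIsoAt i
    exact (HomologicalComplex.exactAt_iff_isZero_homology _ _).2
      (((HomologicalComplex.exactAt_iff_isZero_homology _ _).1
        (ShortComplex.exact_of_isZero_X₂ ((freeCx (O_D := O_D) V q).sc i) (hS i hi))).of_iso (isoOfQuasiIsoAt s i))
  haveI : QuasiIso (CochainComplex.ιTruncLE L q) := (CochainComplex.quasiIso_ιTruncLE_iff L q).2 inferInstance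
  obtain ⟨N, c, hc, hN, hN'⟩ := exists_pushAcyc_resolution f (CochainComplex.truncLE L q) q fun n hn =>
    CochainComplex.isZero_of_isStrictlyLE _ q n hn
  haveI := hc
  haveI := hs
  let c' : N ⟶ L := c ≫ CochainComplex.ιTruncLE L q
  haveI : QuasiIso c' := inferInstanceAs (QuasiIso (c ≫ CochainComplex.ιTruncLE L q))
  have h : ∀ {A : Type (u + 1)} [Category.{u} A] [Abelian A] {X Y : CochainComplex A ℤ} (φ : X ⟶ Y)
      [QuasiIso φ], IsIso (DerivedCategory.Qh.map (quotH.map φ)) := fun φ _ =>
    Localization.inverts DerivedCategory.Qh (HomotopyCategory.quasiIso _ (ComplexShape.up ℤ)) _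
      ((HomotopyCategory.quotient_map_mem_quasiIso_iff _).2 ((HomologicalComplex.mem_quasiIso_iff _).2 ‹_›))
  refine ⟨quotH.obj N, quotH.map c', ?_, ?_⟩
  · rw [← Functor.map_comp]
    exact h (c' ≫ s)
  · rw [← Functor.map_comp]
    haveI := quasiIso_pull_map f (c' ≫ s) q hN (pushAcyc_freeCx f V q) hN' hS
    haveI := h ((f.pull.mapHomologicalComplex (ComplexShape.up ℤ)).map (c' ≫ s))
    exact (NatIso.isIso_map_iff
      (Functor.isoWhiskerRight (f.pull.mapHomotopyCategoryFactors (ComplexShape.up ℤ)) DerivedCategory.Qh) _).2 this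

/-- Homotopy classes of maps from a free module to the direct image of a K-injective complex are its maps in the
derived category. -/
theorem bijective_Qh_push (I : CochainComplex (ModSite.Mod O_C) ℤ) [I.IsKInjective] :
    Function.Bijective (DerivedCategory.Qh.map :
      (quotH.obj (freeCx (O_D := O_D) V q) ⟶ (f.push.mapHomotopyCategory (ComplexShape.up ℤ)).obj (quotH.obj I)) → _) := by
  let hadj := KInj.homotopyAdjunction f.adj
  constructor
  · intro h₁ h₂ h
    rw [← sub_eq_zero]
    have h0 : DerivedCategory.Qh.map (h₁ - h₂) = DerivedCategory.Qh.map 0 := by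
      rw [Functor.map_sub, h, sub_self, Functor.map_zero]
    obtain ⟨L, s, hs, e⟩ :=
      (MorphismProperty.map_eq_iff_precomp DerivedCategory.Qh (HomotopyCategory.quasiIso _ _) _ _).1 h0
    rw [comp_zero] at e
    obtain ⟨N, c, -, hiso⟩ := exists_refine f V q s hs
    apply (hadj.homEquiv _ _).symm.injective
    apply (CochainComplex.IsKInjective.Qh_map_bijective _ I).injective
    haveI := hiso
    rw [← cancel_epi (DerivedCategory.Qh.map ((f.pull.mapHomotopyCategory (ComplexShape.up ℤ)).map (c ≫ s))),
      ← Functor.map_comp, ← Functor.map_comp, ← hadj.homEquiv_naturality_left_symm,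
      ← hadj.homEquiv_naturality_left_symm, Category.assoc, e, comp_zero, comp_zero]
  · intro ξ
    obtain ⟨φ, rfl⟩ := Localization.exists_rightFraction DerivedCategory.Qh
      (HomotopyCategory.quasiIso (ModSite.Mod O_D) (ComplexShape.up ℤ)) ξ
    obtain ⟨N, c, h1, hiso⟩ := exists_refine f V q φ.s φ.hs
    haveI := hiso
    haveI := h1
    obtain ⟨g, hg⟩ := (CochainComplex.IsKInjective.Qh_map_bijective _ I).surjective
      (inv (DerivedCategory.Qh.map ((f.pull.mapHomotopyCategory (ComplexShape.up ℤ)).map (c ≫ φ.s))) ≫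
        DerivedCategory.Qh.map ((hadj.homEquiv _ _).symm (c ≫ φ.f)))
    rw [IsIso.eq_inv_comp, ← Functor.map_comp] at hg
    have hg' := (CochainComplex.IsKInjective.Qh_map_bijective _ I).injective hg
    refine ⟨hadj.homEquiv _ _ g, ?_⟩
    haveI := Localization.inverts DerivedCategory.Qh
      (HomotopyCategory.quasiIso (ModSite.Mod O_D) (ComplexShape.up ℤ)) _ φ.hs
    haveI : IsIso (DerivedCategory.Qh.map c) := by
      haveI : IsIso (DerivedCategory.Qh.map c ≫ DerivedCategory.Qh.map φ.s) := by
        rw [← Functor.map_comp]; exact h1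
      exact IsIso.of_isIso_comp_right _ (DerivedCategory.Qh.map φ.s)
    rw [← cancel_epi (DerivedCategory.Qh.map φ.s), φ.map_s_comp_map]
    rw [← cancel_epi (DerivedCategory.Qh.map c), ← Functor.map_comp, ← Functor.map_comp, ← Functor.map_comp,
      ← Category.assoc, ← hadj.homEquiv_naturality_left, hg', Equiv.apply_symm_apply]

end Groth.Agent.SiteCmpLib
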