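import Groth.Agent.SiteCmpLib.Acyclic
import Groth.Agent.SiteCmpLib.Adj
import Groth.Agent.SiteBase.AcyclicPush
import Groth.Agent.SiteBase.SuppAcyclic
import Groth.Agent.RlimCrit.Sites
import Groth.Agent.KFlat.BddResolution
import Groth.Agent.KFlat.Resolution
import Groth.Agent.KFlat.QuasiIso
import Groth.Agent.KFlat.ModSite

/-!
# Direct images of injective modules on ringed sites are acyclic
-/

set_option autoImplicit false
set_option linter.style.haveILetI false

universe u

open CategoryTheory CategoryTheory.Limits CategoryTheory.Abelian Opposite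

noncomputable section

namespace Groth.Agent.SiteCmpLib

variable {C : Type u} [SmallCategory C] {J : GrothendieckTopology C} {O_C : Sheaf J CommRingCat.{u}}
  {D : Type u} [SmallCategory D] {K : GrothendieckTopology D} {O_D : Sheaf K CommRingCat.{u}}
  (f : ModSite.RMor O_C O_D)

/-- The free module on an object. -/
abbrev freeOn {C : Type u} [SmallCategory C] {J : GrothendieckTopology C} (O : Sheaf J CommRingCat.{u})
    (U : C) : ModSite.Mod O :=
  (RlimCrit.modP (ModSite.ringSh O)).obj U

theorem extVanish_freeOn_push (I : ModSite.Mod O_C) [Injective I] (V : D) :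
    ExtVanish.{u} (freeOn O_D V) (f.push.obj I) := fun p => by
  have h : CohCx.IsTotallyAcyclic (ModSite.toAb (f.push.obj I)) :=
    SiteBase.isTotallyAcyclic_push_of_exact (SiteBase.pullAbAdj J K f.fn)
      (SiteBase.isTotallyAcyclic_toSheaf_injective I)
  haveI := h (SiteBase.shYoneda K V) p
  exact RlimCrit.subsingleton_ext_mod (ModSite.ringSh O_D) V (f.push.obj I) (p + 1)
    (SiteBase.HKYonedaEquiv _ (p + 1) V).toEquiv.subsingleton

/-- Modules acyclic for direct images of injectives. -/
def PushAcyc (M : ModSite.Mod O_D) : Prop :=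
  ∀ (I : ModSite.Mod O_C), Injective I → ExtVanish.{u} M (f.push.obj I)

theorem resClass_pushAcyc : KFlat.ResClass (PushAcyc f) where
  iso {M M'} e h I hI p := by
    haveI := h I hI p
    exact Function.Injective.subsingleton (f := fun x => (Ext.mk₀ e.hom).comp x (zero_add (p + 1)))
      fun x y hxy => by simpa using congrArg (fun z => (Ext.mk₀ e.inv).comp z (zero_add (p + 1))) hxy
  zero {M} hM I _ p := subsingleton_of_forall_eq 0 fun x => by
    rw [← Ext.mk₀_id_comp x, hM.eq_of_src (𝟙 M) 0, Ext.mk₀_zero, Ext.zero_comp]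
  biprod {M M'} h h' I hI p := by
    haveI := h I hI p
    haveI := h' I hI p
    exact Ext.biprodAddEquiv.toEquiv.subsingleton
  sum Y h I hI := extVanish_coproduct Y _ fun t => h t I hI
  cover X := by
    let T := Σ U : D, ((freeOn O_D U) ⟶ X)
    refine ⟨∐ fun t : T => freeOn O_D t.1, Sigma.desc fun t => t.2,
      fun I hI => extVanish_coproduct _ _ fun t => @extVanish_freeOn_push _ _ _ _ _ _ _ _ f I hI t.1, ?_⟩
    refine Preadditive.epi_of_cancel_zero _ fun {N} k hk => (RlimCrit.isLocGen_mod _).det k fun U x => ?_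
    have := congrArg (Sigma.ι (fun t : T => freeOn O_D t.1) ⟨U, x⟩ ≫ ·) hk
    simpa using this

/-- A map of complexes bounded above is dominated by one with acyclic terms. -/
theorem exists_pushAcyc_resolution (G : CochainComplex (ModSite.Mod O_D) ℤ) (b : ℤ)
    (hG : ∀ n, b < n → IsZero (G.X n)) :
    ∃ (N : CochainComplex (ModSite.Mod O_D) ℤ) (c : N ⟶ G), QuasiIso c ∧ (∀ n, PushAcyc f (N.X n)) ∧
      ∀ n, b < n → IsZero (N.X n) := by
  obtain ⟨Z, hZ⟩ : ∃ Z : CochainComplex (ModSite.Mod O_D) ℤ, IsZero Z := HasZeroObject.zero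
  have hZX : ∀ i, IsZero (Z.X i) := fun i =>
    (HomologicalComplex.eval (ModSite.Mod O_D) (ComplexShape.up ℤ) i).map_isZero hZ
  obtain ⟨N, β, c, hc, -, hβ, hN⟩ :=
    KFlat.exists_split_factor (resClass_pushAcyc f) (0 : Z ⟶ G) b (fun i _ => hZX i) hG
  exact ⟨N, c, hc, fun n => KFlat.SplitInj.source (resClass_pushAcyc f).iso (resClass_pushAcyc f).biprod
    (hβ n) ((resClass_pushAcyc f).zero (hZX n)), hN⟩

/-- The inverse image of a quasi-isomorphism between bounded above complexes of acyclic modules. -/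
theorem quasiIso_pull_map {P Q : CochainComplex (ModSite.Mod O_D) ℤ} (φ : P ⟶ Q) [QuasiIso φ] (b : ℤ)
    (hP : ∀ n, PushAcyc f (P.X n)) (hQ : ∀ n, PushAcyc f (Q.X n)) (hP' : ∀ n, b < n → IsZero (P.X n))
    (hQ' : ∀ n, b < n → IsZero (Q.X n)) :
    QuasiIso ((f.pull.mapHomologicalComplex (ComplexShape.up ℤ)).map φ) := by
  refine KFlat.quasiIso_of_acyclic_cone _ fun n => ?_
  refine HomologicalComplex.ExactAt.of_iso ?_ (CochainComplex.mappingCone.mapHomologicalComplexIso φ _)
  refine exactAt_map_of_adjoint f.adj _ b (fun m hm => KFlat.isZero_mappingCone_X φ m hP' (hQ' m hm) (by omega))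
    (KFlat.acyclic_cone_of_quasiIso φ) (fun I hI m => ?_) n
  exact (resClass_pushAcyc f).iso (KFlat.coneXIso φ m).symm
    ((resClass_pushAcyc f).biprod (hP (m + 1)) (hQ m)) I hI

end Groth.Agent.SiteCmpLib
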